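import Cfsg.Agent.Lib.InvE66T.Recur

/-!
Moving products over orbits of orthogonal roots to representatives.
-/

set_option autoImplicit false

namespace Cfsg.Agent.Lib.InvE66T

open Cfsg.Lie Cfsg.Agent.Lib.Chev Cfsg.Agent.Lib.ChevCent Cfsg.Agent.Lib.InvE66
open scoped Matrix

/-- The representatives and the transitions: a root, a list of orbit numbers and the representative reached. -/
structure TwTab where
  reps : List (List ℕ)
  rows : List (List (ℕ × List ℕ × ℕ))

/-- The word of a list of orbit numbers. -/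
def wordOf (OW : List (List ℕ)) (W : List ℕ) : List ℕ := W.flatMap fun k => OW.getD k []

/-- The orbit words are words commuting with the symmetry. -/
def chkOW (D : ChevalleyDatum) (C : Cert) (rho : ℕ → ℕ) (OW : List (List ℕ)) : Bool :=
  OW.all fun L => L.all (fun i => Nat.blt i D.rank) &&
    allN D.nroots fun r => Nat.beq (perm C L (rho r)) (rho (perm C L r))

def chkTReps (D : ChevalleyDatum) (C : Cert) (T : TwTab) : Bool :=
  T.reps.all (chkFlat D C) && T.reps.contains []

def chkTRows (D : ChevalleyDatum) (C : Cert) (rho : ℕ → ℕ) (OW : List (List ℕ)) (T : TwTab) : Bool :=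
  allN T.reps.length fun i => allN D.nroots fun γ =>
    (T.reps.getD i []).any (fun β => chkApart D C β γ || chkApart D C β (rho γ)) ||
      (T.rows.getD i []).any fun s => Nat.beq s.1 γ && Nat.blt s.2.2 T.reps.length &&
        ((orbL rho γ ++ T.reps.getD i []).map (perm C (wordOf OW s.2.1))).isPerm (T.reps.getD s.2.2 [])

variable {D : ChevalleyDatum} {C : Cert} {F : Type*} [Field F]

namespace Tw

variable {h : Laced D C} (T : Tw h F)

local notation "X" => xg h.toRooted.toChecked
local notation "PX" => prodX h.toRooted.toChecked F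

/-- Conjugacy by fixed elements. -/
def Rel (a b : GL D.Idx F) : Prop := ∃ z ∈ T.fx, z * a * z⁻¹ = b

theorem Rel.refl (a : GL D.Idx F) : T.Rel a a := ⟨1, one_mem _, by group⟩

variable {T} in
theorem Rel.trans {a b c : GL D.Idx F} (h1 : T.Rel a b) (h2 : T.Rel b c) : T.Rel a c := by
  obtain ⟨z, hz, rfl⟩ := h1
  obtain ⟨w, hw, rfl⟩ := h2
  exact ⟨w * z, mul_mem hw hz, by group⟩

variable {T} in
theorem Rel.symm {a b : GL D.Idx F} (h1 : T.Rel a b) : T.Rel b a := by
  obtain ⟨z, hz, rfl⟩ := h1
  exact ⟨z⁻¹, inv_mem hz, by group⟩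

variable {OW : List (List ℕ)} (hOW : chkOW D C T.rho OW = true)
  (hN : ∀ k, nProd h.toRooted.toChecked F (OW.getD k []) ∈ T.fx)

include hOW in
theorem orb_word (k : ℕ) : IsWord D (OW.getD k []) ∧
    ∀ r < D.nroots, perm C (OW.getD k []) (T.rho r) = T.rho (perm C (OW.getD k []) r) := by
  have hb := hOW
  simp only [chkOW, List.all_eq_true, Bool.and_eq_true, allN_iff, natBeq_iff, Nat.blt_eq] at hb
  by_cases hk : k < OW.length
  · rw [List.getD_eq_getElem _ _ hk]
    exact ⟨(hb _ (List.getElem_mem _)).1, (hb _ (List.getElem_mem _)).2⟩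
  · rw [List.getD_eq_default _ _ (by omega)]
    exact ⟨by simp [IsWord], fun r _ => rfl⟩

include hOW in
theorem wordOf_spec : ∀ W : List ℕ, IsWord D (wordOf OW W) ∧
    ∀ r < D.nroots, perm C (wordOf OW W) (T.rho r) = T.rho (perm C (wordOf OW W) r)
  | [] => ⟨by simp [wordOf, IsWord], fun r _ => rfl⟩
  | k :: W => by
    obtain ⟨h1, h2⟩ := T.orb_word hOW k
    obtain ⟨i1, i2⟩ := wordOf_spec W
    rw [show wordOf OW (k :: W) = OW.getD k [] ++ wordOf OW W from List.flatMap_cons]
    refine ⟨h1.append i1, fun r hr => ?_⟩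
    rw [Cfsg.Agent.Lib.Chev.perm_append, Cfsg.Agent.Lib.Chev.perm_append, i2 r hr,
      h2 _ (h.toRooted.toChecked.perm_lt i1 hr)]

include hN in
theorem nProd_wordOf : ∀ W : List ℕ, nProd h.toRooted.toChecked F (wordOf OW W) ∈ T.fx
  | [] => by
    rw [show nProd h.toRooted.toChecked F (wordOf OW []) = 1 by simp [wordOf, nProd]]
    exact one_mem _
  | k :: W => by
    rw [show wordOf OW (k :: W) = OW.getD k [] ++ wordOf OW W from List.flatMap_cons, nProd_append]
    exact mul_mem (hN k) (nProd_wordOf W)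

include hOW hN in
theorem rel_move [CharP F 2] (W : List ℕ) {M R : List ℕ} (hM : ∀ r ∈ M, r < D.nroots)
    (hR : chkFlat D C R = true) (e : (M.map (perm C (wordOf OW W))).Perm R) : T.Rel (PX M) (PX R) :=
  ⟨_, T.nProd_wordOf hN W, by rw [h.nProd_conj (T.wordOf_spec hOW W).1 M hM, h.prodX_perm hR e]⟩

theorem prodX_orbs_fixed [CharP F 2] : ∀ gs : List ℕ, (∀ r ∈ gs, r < D.nroots) → PX (orbsL T.rho gs) ∈ T.fx
  | [], _ => by rw [show orbsL T.rho [] = [] from rfl, h.prodX_nil]; exact one_mem _
  | r :: gs, hgs => by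
    rw [show orbsL T.rho (r :: gs) = orbL T.rho r ++ orbsL T.rho gs from List.flatMap_cons, h.prodX_append,
      T.prodX_orbL]
    exact mul_mem (T.oel_fixed (hgs r List.mem_cons_self) fun _ => map_one T.phi)
      (prodX_orbs_fixed gs fun x hx => hgs x (List.mem_cons_of_mem _ hx))

theorem rel_nf [CharP F 2] (gs : List ℕ) {S A : List ℕ} (hgs : ∀ r ∈ gs, r < D.nroots)
    (hg : ∀ r ∈ orbsL T.rho gs, r ∈ posSet D) (hS : ∀ r ∈ S, r ∈ posSet D) (hA : ∀ r ∈ A, r ∈ posSet D)
    (e : nfW D C (orbsL T.rho gs ++ S ++ (orbsL T.rho gs).reverse) = nfW D C A) :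
    T.Rel (PX S) (PX A) := by
  refine ⟨_, T.prodX_orbs_fixed gs hgs, ?_⟩
  rw [← h.prodX_reverse, ← h.prodX_append, ← h.prodX_append, ← (h.nfW_spec (F := F) _ ?_).2, e,
    (h.nfW_spec (F := F) A hA).2]
  intro r hr
  simp only [List.mem_append, List.mem_reverse] at hr
  rcases hr with (hr | hr) | hr
  · exact hg r hr
  · exact hS r hr
  · exact hg r hr

theorem rel_special [CharP F 2] {al : F} (hal : al + T.phi al = 1) {r x : ℕ} (hr : r < D.nroots)
    (hx : x < D.nroots) (hrne : T.rho r ≠ r) (hxne : T.rho x ≠ x) (e1 : prs D C r x = -1)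
    (e2 : 0 ≤ prs D C (T.rho r) x) (he : T.rho (sumR C r x) = sumR C r x) {rest : List ℕ}
    (hrest : ∀ b ∈ rest, b < D.nroots ∧ 0 ≤ prs D C x b ∧ 0 ≤ prs D C (T.rho x) b) :
    T.Rel (PX (r :: T.rho r :: rest)) (PX (sumR C r x :: r :: T.rho r :: rest)) := by
  set r' := T.rho r with hr'
  set y := T.rho x with hy
  have hr'n : r' < D.nroots := T.rho_lt hr
  have hyn : y < D.nroots := T.rho_lt hx
  obtain ⟨hen, heφ, -⟩ := h.sum_spec hr hx e1
  set e := sumR C r x with hedef
  have e1' : prs D C r' y = -1 := by rw [T.rho_prs hr hx, e1]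
  have he' : sumR C r' y = e := by rw [T.rho_sum hr hx e1, he]
  have e2' : 0 ≤ prs D C r y := by rw [← T.prs_left hr hx]; exact e2
  have hxe : 0 ≤ prs D C x e := by
    rw [heφ _ (h.isAdd_prs x), h.prs_self hx, h.prs_comm hx hr, e1]; norm_num
  have hre : Commute (X r (1 : F)) (X e (T.phi al)) := h.commute_of_nonneg hr hen (by
    rw [heφ _ (h.isAdd_prs r), h.prs_self hr, e1]; norm_num) _ _
  set a := T.oel x al with ha
  have haf : a ∈ T.fx := T.oel_fixed hx fun e => absurd e hxne
  refine ⟨a, haf, ?_⟩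
  have ea : a = X x al * X y (T.phi al) := by rw [ha, oel, if_neg hxne]
  have fix : ∀ {a b : ℕ}, a < D.nroots → b < D.nroots → 0 ≤ prs D C a b → ∀ u v : F,
      X a u * X b v * (X a u)⁻¹ = X b v := fun {a b} ha hb e u v => by
    rw [(h.commute_of_nonneg ha hb e u v).eq, mul_inv_cancel_right]
  have c1 : a * X r 1 * a⁻¹ = X e al * X r 1 := by
    rw [ea, show X x al * X y (T.phi al) * X r 1 * (X x al * X y (T.phi al))⁻¹ =
      X x al * (X y (T.phi al) * X r 1 * (X y (T.phi al))⁻¹) * (X x al)⁻¹ by group,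
      fix hyn hr (by rw [h.prs_comm hyn hr]; exact e2'), h.conj_sum hr hx e1, mul_one]
  have c2 : a * X r' 1 * a⁻¹ = X e (T.phi al) * X r' 1 := by
    rw [ea, show X x al * X y (T.phi al) * X r' 1 * (X x al * X y (T.phi al))⁻¹ =
      X x al * (X y (T.phi al) * X r' 1 * (X y (T.phi al))⁻¹) * (X x al)⁻¹ by group,
      h.conj_sum hr'n hyn e1', mul_one, he',
      show X x al * (X e (T.phi al) * X r' 1) * (X x al)⁻¹ =
        X x al * X e (T.phi al) * (X x al)⁻¹ * (X x al * X r' 1 * (X x al)⁻¹) by group,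
      fix hx hen hxe, fix hx hr'n (by rw [h.prs_comm hx hr'n]; exact e2)]
  have c3 : Commute a (PX rest) := by
    refine Commute.list_prod_right _ _ fun v hv => ?_
    obtain ⟨b, hb, rfl⟩ := List.mem_map.1 hv
    obtain ⟨hbn, h1, h2⟩ := hrest b hb
    rw [ea]
    exact (h.commute_of_nonneg hx hbn h1 _ _).mul_left (h.commute_of_nonneg hyn hbn h2 _ _)
  rw [h.prodX_cons, h.prodX_cons, h.prodX_cons, h.prodX_cons, h.prodX_cons]
  calc a * (X r 1 * (X r' 1 * PX rest)) * a⁻¹ =
        a * X r 1 * a⁻¹ * (a * X r' 1 * a⁻¹) * (a * PX rest * a⁻¹) := by group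
    _ = X e al * (X r 1 * X e (T.phi al)) * X r' 1 * PX rest := by
        rw [c1, c2, c3.eq, mul_inv_cancel_right]; simp only [mul_assoc]
    _ = X e al * X e (T.phi al) * X r 1 * X r' 1 * PX rest := by rw [hre.eq]; simp only [mul_assoc]
    _ = _ := by rw [← xg_add, hal]; simp only [mul_assoc]

include hOW in
theorem orbL_move (W : List ℕ) {γ : ℕ} (hγ : γ < D.nroots) :
    (orbL T.rho γ).map (perm C (wordOf OW W)) = orbL T.rho (perm C (wordOf OW W) γ) := by
  obtain ⟨hW, hc⟩ := T.wordOf_spec hOW W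
  have hγ' := h.toRooted.toChecked.perm_lt hW hγ
  unfold orbL
  by_cases e : T.rho γ = γ
  · rw [if_pos e, if_pos (by rw [← hc γ hγ, e])]; rfl
  · rw [if_neg e, if_neg, List.map_cons, List.map_cons, List.map_nil, hc γ hγ]
    intro e'
    rw [← hc γ hγ] at e'
    have := h.prs_perm hW hγ (T.rho_lt hγ)
    rw [e', h.prs_self hγ', (T.rho_orth hγ).resolve_left e] at this
    omega

variable {Tb : TwTab} (h1 : chkTReps D C Tb = true) (h2 : chkTRows D C T.rho OW Tb = true)

include h1 in
omit T in
theorem tab_flat (j : ℕ) : chkFlat D C (Tb.reps.getD j []) = true := by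
  simp only [chkTReps, Bool.and_eq_true, List.all_eq_true] at h1
  by_cases hj : j < Tb.reps.length
  · rw [List.getD_eq_getElem _ _ hj]
    exact h1.1 _ (List.getElem_mem _)
  · rw [List.getD_eq_default _ _ (by omega)]
    rfl

include hOW h1 h2 in
theorem exists_tmove : ∀ os : List ℕ, (∀ r ∈ os, r < D.nroots) →
    os.Pairwise (fun a b => ∀ x ∈ orbL T.rho a, ∀ y ∈ orbL T.rho b, prs D C x y = 0) →
    ∃ W, ∃ j < Tb.reps.length, ((orbsL T.rho os).map (perm C (wordOf OW W))).Perm (Tb.reps.getD j [])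
  | [], _, _ => by
    simp only [chkTReps, Bool.and_eq_true, List.contains_iff_mem] at h1
    obtain ⟨j, hj, e⟩ := List.mem_iff_getElem.1 h1.2
    exact ⟨[], j, hj, by rw [List.getD_eq_getElem _ _ hj, e]; rfl⟩
  | γ :: os, hM, hp => by
    have hc := h.toRooted.toChecked
    rw [List.pairwise_cons] at hp
    obtain ⟨W, j, hj, e⟩ := exists_tmove os (fun r hr => hM r (List.mem_cons_of_mem _ hr)) hp.2
    obtain ⟨hW, hWc⟩ := T.wordOf_spec hOW W
    have hγ := hM γ List.mem_cons_self
    have hγ' := hc.perm_lt hW hγ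
    have horth : ∀ β ∈ Tb.reps.getD j [], β < D.nroots ∧
        ∀ g ∈ orbL T.rho γ, g < D.nroots ∧ prs D C β (perm C (wordOf OW W) g) = 0 := by
      intro β hβ
      obtain ⟨a, ha, rfl⟩ := List.mem_map.1 (e.mem_iff.2 hβ)
      obtain ⟨o, ho, hao⟩ := List.mem_flatMap.1 ha
      have han : a < D.nroots := by
        have hon := hM o (List.mem_cons_of_mem _ ho)
        unfold orbL at hao
        split_ifs at hao <;> simp only [List.mem_cons, List.not_mem_nil, or_false] at hao
        · exact hao ▸ hon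
        · rcases hao with rfl | rfl
          · exact hon
          · exact T.rho_lt hon
      refine ⟨hc.perm_lt hW han, fun g hg => ?_⟩
      have hgn : g < D.nroots := by
        unfold orbL at hg
        split_ifs at hg <;> simp only [List.mem_cons, List.not_mem_nil, or_false] at hg
        · exact hg ▸ hγ
        · rcases hg with rfl | rfl
          · exact hγ
          · exact T.rho_lt hγ
      exact ⟨hgn, by rw [h.prs_perm hW han hgn, h.prs_comm han hgn, hp.1 o ho g hg a hao]⟩
    have hsplit : orbsL T.rho (γ :: os) = orbL T.rho γ ++ orbsL T.rho os := List.flatMap_cons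
    have hb := h2
    simp only [chkTRows, allN_iff, Bool.or_eq_true, List.any_eq_true, Bool.and_eq_true, natBeq_iff, Nat.blt_eq,
      List.isPerm_iff] at hb
    rcases hb j hj _ hγ' with ⟨β, hβ, hap⟩ | ⟨s, hs, ⟨hs1, hs2⟩, hs3⟩
    · exfalso
      obtain ⟨hβn, hg0⟩ := horth β hβ
      have apart : ∀ g' < D.nroots, prs D C β g' = 0 → chkApart D C β g' = true → False := by
        intro g' hg' h0 hap'
        simp only [chkApart, Bool.or_eq_true, natBeq_iff, Bool.not_eq_true', ← Bool.not_eq_true,
          List.isEmpty_iff] at hap'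
        rcases hap' with ((e' | e') | e') | e'
        · rw [e', h.prs_self hβn] at h0; omega
        · rw [e', h.prs_ng_self hβn] at h0; omega
        · by_cases e'' : g' = β
          · rw [e'', h.prs_self hβn] at h0; omega
          have := h.cTerms_nil_of_nonneg hβn hg' e'' h0.ge
          rw [h.cTerms_short' hβn hg'] at this
          cases he : cE C β g' with
          | nil => exact e' he
          | cons x l => simp [he] at this
        · have hn := Checked.ng_lt (D := D) hg'
          have h0' : prs D C β (ng D g') = 0 := by rw [h.prs_ng hg', h0, neg_zero]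
          by_cases e'' : ng D g' = β
          · rw [e'', h.prs_self hβn] at h0'; omega
          have := h.cTerms_nil_of_nonneg hβn hn e'' h0'.ge
          rw [h.cTerms_short' hβn hn] at this
          cases he : cE C β (ng D g') with
          | nil => exact e' he
          | cons x l => simp [he] at this
      rcases hap with hap | hap
      · exact apart _ hγ' (hg0 γ (by unfold orbL; split_ifs <;> simp)).2 hap
      · rw [← hWc γ hγ] at hap
        by_cases e' : T.rho γ = γ
        · rw [e'] at hap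
          exact apart _ hγ' (hg0 γ (by simp [orbL, e'])).2 hap
        · exact apart _ (hc.perm_lt hW (T.rho_lt hγ)) (hg0 _ (by simp [orbL, e'])).2 hap
    · refine ⟨s.2.1 ++ W, s.2.2, hs2, List.Perm.trans ?_ hs3⟩
      have hw : wordOf OW (s.2.1 ++ W) = wordOf OW s.2.1 ++ wordOf OW W := List.flatMap_append
      have hfun : ∀ L : List ℕ, L.map (perm C (wordOf OW (s.2.1 ++ W))) =
          (L.map (perm C (wordOf OW W))).map (perm C (wordOf OW s.2.1)) := fun L => by
        rw [List.map_map, hw]; exact List.map_congr_left fun x _ => Cfsg.Agent.Lib.Chev.perm_append _ _ _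
      rw [hfun, hsplit, List.map_append, T.orbL_move hOW W hγ]
      exact ((e.append_left _)).map _

end Tw

end Cfsg.Agent.Lib.InvE66T
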