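import Cfsg.Agent.Lib.InvE66T.Sym

/-!
Coefficients at roots which are not sums inside a closed set of positive roots.
-/

set_option autoImplicit false

namespace Cfsg.Agent.Lib.InvE66T

open Cfsg.Lie Cfsg.Agent.Lib.Chev Cfsg.Agent.Lib.ChevCent Cfsg.Agent.Lib.InvE66
open scoped Matrix

variable {D : ChevalleyDatum} {C : Cert} {F : Type*} [Field F]

/-- A closed set of positive roots. -/
def IsCl (D : ChevalleyDatum) (C : Cert) (S : Set ℕ) : Prop :=
  S ⊆ posSet D ∧ ∀ a ∈ S, ∀ b ∈ S, prs D C a b = -1 → sumR C a b ∈ S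

/-- A member which is not a sum of two members. -/
def IrrIn (D : ChevalleyDatum) (C : Cert) (S : Set ℕ) (η : ℕ) : Prop :=
  η ∈ S ∧ ∀ a ∈ S, ∀ b ∈ S, prs D C a b = -1 → sumR C a b ≠ η

/-- The difference of two roots. -/
def subR (D : ChevalleyDatum) (C : Cert) (η r : ℕ) : ℕ := sumR C η (ng D r)

/-- The coefficient at `η`. -/
noncomputable def cf (hh : Checked D C) (S : Set ℕ) (η : ℕ) (x : GL D.Idx F) : F := by
  classical exact if e : ∃ t : F, (xg hh η t)⁻¹ * x ∈ rootGen D F (S \ {η}) then e.choose else 0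

end Cfsg.Agent.Lib.InvE66T

namespace Cfsg.Agent.Lib.InvE66.Laced

open Cfsg.Lie Cfsg.Agent.Lib.Chev Cfsg.Agent.Lib.ChevCent Cfsg.Agent.Lib.InvE66T
open scoped Matrix

variable {D : ChevalleyDatum} {C : Cert} {F : Type*} [Field F] (h : Laced D C)
include h

local notation "X" => xg h.toRooted.toChecked
local notation "CF" => cf h.toRooted.toChecked

theorem closed_of_cl {S : Set ℕ} (hS : IsCl D C S) : ClosedSet D C S :=
  h.closed_of_sum (fun _ hr => (hS.1 hr).2) hS.2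

omit h in
theorem closed_sdiff {S : Set ℕ} (hS : IsCl D C S) {η : ℕ} (hη : IrrIn D C S η) :
    IsCl D C (S \ {η}) :=
  ⟨fun _ ha => hS.1 ha.1, fun a ha b hb e => ⟨hS.2 a ha.1 b hb.1 e, hη.2 a ha.1 b hb.1 e⟩⟩

theorem norm_irr {S : Set ℕ} (hS : IsCl D C S) {η : ℕ} (hη : IrrIn D C S η) {a : ℕ} (ha : a ∈ S) (t : F) :
    X a t ∈ Subgroup.normalizer (rootGen D F (S \ {η}) : Set (GL D.Idx F)) :=
  h.norm_of_pos (S := S \ {η}) (fun b hb => hS.1 hb.1) (hS.1 ha)
    (fun b hb e => ⟨hS.2 a ha b hb.1 e, hη.2 a ha b hb.1 e⟩) t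

theorem cf_spec {S : Set ℕ} (hS : IsCl D C S) {η : ℕ} (hη : IrrIn D C S η) {x : GL D.Idx F}
    (hx : x ∈ rootGen D F S) : (X η (CF S η x))⁻¹ * x ∈ rootGen D F (S \ {η}) := by
  classical
  obtain ⟨t, n, hn, e⟩ := h.split hS.1 hη.1 (fun s hs _ e => ⟨hS.2 η hη.1 s hs e, hη.2 η hη.1 s hs e⟩) hx
  have hex : ∃ t : F, (X η t)⁻¹ * x ∈ rootGen D F (S \ {η}) := ⟨t, by rw [e, inv_mul_cancel_left]; exact hn⟩
  rw [cf, dif_pos hex]
  exact hex.choose_spec

theorem cf_eq {S : Set ℕ} (hS : IsCl D C S) {η : ℕ} (hη : IrrIn D C S η) {x : GL D.Idx F}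
    (hx : x ∈ rootGen D F S) {t : F} (ht : (X η t)⁻¹ * x ∈ rootGen D F (S \ {η})) : CF S η x = t := by
  have h1 := mul_mem (h.cf_spec hS hη hx) (inv_mem ht)
  have e : (X η (CF S η x))⁻¹ * x * ((X η t)⁻¹ * x)⁻¹ = X η (-CF S η x + t) := by
    rw [xg_add, ← xg_inv]; group
  rw [e] at h1
  have h2 := h.xg_mem_iff (S := S \ {η}) (fun a ha => hS.1 ha.1) (h.closed_of_cl (closed_sdiff hS hη)) (hS.1 hη.1)
    (by simp) h1
  exact (eq_of_sub_eq_zero (by linear_combination h2)).symm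

theorem cf_mul {S : Set ℕ} (hS : IsCl D C S) {η : ℕ} (hη : IrrIn D C S η) {x y : GL D.Idx F}
    (hx : x ∈ rootGen D F S) (hy : y ∈ rootGen D F S) : CF S η (x * y) = CF S η x + CF S η y := by
  refine h.cf_eq hS hη (mul_mem hx hy) ?_
  set s := CF S η x
  set t := CF S η y
  have hn : X η t ∈ Subgroup.normalizer (rootGen D F (S \ {η}) : Set (GL D.Idx F)) := h.norm_irr hS hη hη.1 t
  have h1 := (Subgroup.mem_normalizer_iff.1 (inv_mem hn) _).1 (h.cf_spec hS hη hx)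
  have e : (X η (s + t))⁻¹ * (x * y) = (X η t)⁻¹ * ((X η s)⁻¹ * x) * (X η t)⁻¹⁻¹ * ((X η t)⁻¹ * y) := by
    rw [xg_add]; group
  rw [e]
  exact mul_mem h1 (h.cf_spec hS hη hy)

theorem cf_of_mem {S : Set ℕ} (hS : IsCl D C S) {η : ℕ} (hη : IrrIn D C S η) {x : GL D.Idx F}
    (hx : x ∈ rootGen D F (S \ {η})) : CF S η x = 0 :=
  h.cf_eq hS hη (rootGen_mono Set.sdiff_subset hx) (by rw [xg_zero]; simpa using hx)

theorem cf_one {S : Set ℕ} (hS : IsCl D C S) {η : ℕ} (hη : IrrIn D C S η) :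
    CF S η (1 : GL D.Idx F) = 0 := h.cf_of_mem hS hη (one_mem _)

theorem cf_inv {S : Set ℕ} (hS : IsCl D C S) {η : ℕ} (hη : IrrIn D C S η) {x : GL D.Idx F}
    (hx : x ∈ rootGen D F S) : CF S η x⁻¹ = - CF S η x := by
  have e := h.cf_mul hS hη hx (inv_mem hx)
  rw [mul_inv_cancel, h.cf_one hS hη] at e
  linear_combination -e

theorem cf_xg {S : Set ℕ} (hS : IsCl D C S) {η : ℕ} (hη : IrrIn D C S η) {a : ℕ} (ha : a ∈ S) (t : F) :
    CF S η (X a t) = if η = a then t else 0 := by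
  split_ifs with e
  · subst e
    exact h.cf_eq hS hη (h.xg_mem ha t) (by simp)
  · exact h.cf_of_mem hS hη (h.xg_mem (S := S \ {η}) ⟨ha, fun e' => e e'.symm⟩ t)

theorem mem_of_cf_zero {S : Set ℕ} (hS : IsCl D C S) {x : GL D.Idx F} (hx : x ∈ rootGen D F S) :
    ∀ E : Finset ℕ, (∀ η ∈ E, IrrIn D C S η ∧ CF S η x = 0) → x ∈ rootGen D F (S \ (E : Set ℕ)) := by
  intro E
  induction E using Finset.induction with
  | empty => intro _; simpa using hx
  | @insert a E _ ih =>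
    intro hE
    obtain ⟨ha, hz⟩ := hE a (Finset.mem_insert_self _ _)
    have h1 := ih fun b hb => hE b (Finset.mem_insert_of_mem hb)
    have h2 := h.cf_spec hS ha hx
    rw [hz, xg_zero, inv_one, one_mul] at h2
    have hclE : IsCl D C (S \ (E : Set ℕ)) := ⟨fun b hb => hS.1 hb.1, fun u hu v hv e =>
      ⟨hS.2 u hu.1 v hv.1 e, fun hm => (hE _ (Finset.mem_insert_of_mem hm)).1.2 u hu.1 v hv.1 e rfl⟩⟩
    refine rootGen_mono ?_ (h.toRooted.mem_rootGen_inter (fun b hb => hS.1 hb.1) (fun b hb => hS.1 hb.1)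
      (h.closed_of_cl hclE) (h.closed_of_cl (closed_sdiff hS ha)) h1 h2)
    rintro b ⟨⟨hb, h3⟩, -, h4⟩
    exact ⟨hb, by simpa using And.intro h4 h3⟩

theorem subR_add {r a : ℕ} (hr : r < D.nroots) (ha : a < D.nroots) (e : prs D C r a = -1) :
    subR D C (sumR C r a) r = a := by
  obtain ⟨hlt, hφ, -⟩ := h.sum_spec hr ha e
  have e1 : prs D C (sumR C r a) r = 1 := by
    rw [h.prs_comm hlt hr, hφ _ (h.isAdd_prs r), h.prs_self hr, e]; ring
  obtain ⟨-, h2, -, -, -, h6⟩ := h.sub_facts hlt hr e1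
  show sumR C (sumR C r a) (ng D r) = a
  refine h.eq_of_cd h2 ha ?_
  rw [h6 _ h.toRooted.toChecked.isAdd_cd, hφ _ h.toRooted.toChecked.isAdd_cd]
  ring

theorem subR_spec {r η : ℕ} (hr : r < D.nroots) (hη : η < D.nroots) (e : prs D C r η = 1) :
    subR D C η r < D.nroots ∧ prs D C r (subR D C η r) = -1 ∧ sumR C r (subR D C η r) = η ∧
      ∀ φ : ℕ → ℤ, IsAdd D C φ → φ (subR D C η r) = φ η - φ r := by
  obtain ⟨-, h2, -, h4, h5, h6⟩ := h.sub_facts hη hr (by rw [h.prs_comm hη hr, e])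
  exact ⟨h2, h4, (h.sum_comm hr h2 h4).trans h5, h6⟩

/-- The coefficients of a conjugate by a root element. -/
theorem cf_conj [CharP F 2] {S : Set ℕ} (hS : IsCl D C S) {r : ℕ} (hr : r ∈ posSet D) (hrS : r ∉ S)
    (hadd : ∀ b ∈ S, prs D C r b = -1 → sumR C r b ∈ S) {η : ℕ} (hη : IrrIn D C S η)
    (hsub : prs D C r η = 1 → subR D C η r ∈ S → IrrIn D C S (subR D C η r))
    (c : F) {x : GL D.Idx F} (hx : x ∈ rootGen D F S) :
    X r c * x * (X r c)⁻¹ ∈ rootGen D F S ∧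
    CF S η (X r c * x * (X r c)⁻¹) = CF S η x +
      (open scoped Classical in
        if prs D C r η = 1 ∧ subR D C η r ∈ S then c * CF S (subR D C η r) x else 0) := by
  classical
  induction hx using Subgroup.closure_induction with
  | mem g hg =>
    obtain ⟨b, t, hb, e⟩ := hg
    rw [show g = X b t from Units.ext (by rw [e, coe_xg])]
    have hbp := hS.1 hb
    have hne : b ≠ r := fun e => hrS (e ▸ hb)
    rcases h.prs_range hr.2 hbp.2 with e1 | e1 | e1 | e1 | e1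
    · exact absurd e1 hne
    · exact absurd e1 (Checked.ne_ng_of_pos hr hbp h.toRooted.toChecked.two_mul_half)
    · have e2 : prs D C b r = -1 := by rw [h.prs_comm hbp.2 hr.2, e1]
      rw [h.conj_sum hbp.2 hr.2 e2, h.sum_comm hbp.2 hr.2 e2]
      have hm := hadd b hb e1
      refine ⟨mul_mem (h.xg_mem hm _) (h.xg_mem hb _), ?_⟩
      rw [h.cf_mul hS hη (h.xg_mem hm _) (h.xg_mem hb _), h.cf_xg hS hη hm, h.cf_xg hS hη hb, add_comm]
      refine congrArg _ ?_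
      by_cases hh : η = sumR C r b
      · have e3 : prs D C r η = 1 := by
          rw [hh, h.prs_sum hr.2 hbp.2 e1, h.prs_self hr.2, e1]; ring
        have e4 : subR D C η r = b := by rw [hh]; exact h.subR_add hr.2 hbp.2 e1
        rw [if_pos hh, if_pos ⟨e3, e4 ▸ hb⟩, h.cf_xg hS (hsub e3 (e4 ▸ hb)) hb, if_pos e4]
      · rw [if_neg hh]
        split_ifs with h3
        · rw [h.cf_xg hS (hsub h3.1 h3.2) hb, if_neg, mul_zero]
          intro e4
          exact hh (by rw [← e4, (h.subR_spec hr.2 (hS.1 hη.1).2 h3.1).2.2.1])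
        · rfl
    all_goals
      rw [(h.commute_of_nonneg hr.2 hbp.2 (by omega) c t).eq, mul_inv_cancel_right]
      refine ⟨h.xg_mem hb t, ?_⟩
      split_ifs with h3
      · rw [h.cf_xg hS (hsub h3.1 h3.2) hb, if_neg, mul_zero, add_zero]
        intro e4
        have := (h.subR_spec hr.2 (hS.1 hη.1).2 h3.1).2.1
        rw [e4] at this
        omega
      · rw [add_zero]
  | one =>
    rw [mul_one, mul_inv_cancel, h.cf_one hS hη]
    refine ⟨one_mem _, ?_⟩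
    split_ifs with h3
    · rw [h.cf_one hS (hsub h3.1 h3.2), mul_zero, add_zero]
    · rw [add_zero]
  | mul x y hx hy ihx ihy =>
    have e : X r c * (x * y) * (X r c)⁻¹ = X r c * x * (X r c)⁻¹ * (X r c * y * (X r c)⁻¹) := by group
    rw [e]
    refine ⟨mul_mem ihx.1 ihy.1, ?_⟩
    rw [h.cf_mul hS hη ihx.1 ihy.1, ihx.2, ihy.2, h.cf_mul hS hη hx hy]
    split_ifs with h3
    · rw [h.cf_mul hS (hsub h3.1 h3.2) hx hy]; ring
    · ring
  | inv x hx ihx =>
    have e : X r c * x⁻¹ * (X r c)⁻¹ = (X r c * x * (X r c)⁻¹)⁻¹ := by group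
    rw [e]
    refine ⟨inv_mem ihx.1, ?_⟩
    rw [h.cf_inv hS hη ihx.1, ihx.2, h.cf_inv hS hη hx]
    split_ifs with h3
    · rw [h.cf_inv hS (hsub h3.1 h3.2) hx]; ring
    · ring

theorem cf_sg (T : Tw h F) {S : Set ℕ} (hS : IsCl D C S) (hst : T.Stable S) {η : ℕ} (hη : IrrIn D C S η)
    (hη' : IrrIn D C S (T.rho η)) {x : GL D.Idx F} (hx : x ∈ rootGen D F S) :
    CF S (T.rho η) (T.sg x) = T.phi (CF S η x) := by
  have hlt : ∀ r ∈ S, r < D.nroots := fun r hr => (hS.1 hr).2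
  refine h.cf_eq hS hη' (T.sg_rootGen hlt hst hx) ?_
  have hX := T.xg_group (hlt η hη.1) (CF S η x)
  rw [← T.sg_x η (hlt η hη.1), ← T.sg_inv hX, ← T.sg_mul _ (inv_mem hX) _ (rootGen_le_group hlt hx)]
  exact T.sg_rootGen (S := S \ {η}) (S' := S \ {T.rho η}) (fun r hr => hlt r hr.1)
    (fun r hr => ⟨hst r hr.1, fun e => hr.2 (T.rho_inj (hlt r hr.1) (hlt η hη.1) e)⟩) (h.cf_spec hS hη hx)

end Cfsg.Agent.Lib.InvE66.Laced
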