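import Cfsg.Agent.Lib.InvE66T.Orbit

/-!
A fixed involution has a fixed conjugate needing an indecomposable root.
-/

set_option autoImplicit false

namespace Cfsg.Agent.Lib.InvE66T

open Cfsg.Lie Cfsg.Agent.Lib.Chev Cfsg.Agent.Lib.ChevCent Cfsg.Agent.Lib.InvE66
open scoped Matrix

variable {D : ChevalleyDatum} {C : Cert} {F : Type*} [Field F]

local notation "hgt" => Cfsg.Agent.Lib.Chev.ht

theorem closed_high {h : Laced D C} {Ψ : Set ℕ} (hΨ : IsSub D C Ψ) (k : ℤ) :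
    IsCl D C {γ | γ ∈ posOf D Ψ ∧ k ≤ hgt D C γ} :=
  ⟨fun _ ha => ha.1.2, fun a ha b hb e => by
    refine ⟨⟨hΨ.sum_mem a ha.1.1 b hb.1.1 e, h.sum_pos ha.1.2 hb.1.2 e⟩, ?_⟩
    rw [(h.sum_spec ha.1.2.2 hb.1.2.2 e).2.1 _ h.toRooted.toChecked.isAdd_ht]
    have := h.toRooted.toChecked.ht_pos hb.1.2.2 hb.1.2.1
    have := ha.2
    omega⟩

end Cfsg.Agent.Lib.InvE66T

namespace Cfsg.Agent.Lib.InvE66.Laced

open Cfsg.Lie Cfsg.Agent.Lib.Chev Cfsg.Agent.Lib.ChevCent Cfsg.Agent.Lib.InvE66T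
open scoped Matrix

variable {D : ChevalleyDatum} {C : Cert} {F : Type*} [Field F] (h : Laced D C)
  {Ψ : Set ℕ} (hΨ : IsSub D C Ψ)
include h hΨ

theorem exists_indec_pos (ψ : ℕ → ℤ) (hψ : IsAdd D C ψ) : ∀ (k : ℕ) (a : ℕ), a ∈ posOf D Ψ →
    Cfsg.Agent.Lib.Chev.ht D C a ≤ k → 0 < ψ a →
    ∃ α, Indec D C Ψ α ∧ 0 < ψ α ∧
      (α = a ∨ Cfsg.Agent.Lib.Chev.ht D C α < Cfsg.Agent.Lib.Chev.ht D C a) := by
  intro k
  induction k with
  | zero =>
    intro a ha hk _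
    have := h.toRooted.toChecked.ht_pos ha.2.2 ha.2.1
    omega
  | succ k ih =>
    intro a ha hk hp
    by_cases hi : Indec D C Ψ a
    · exact ⟨a, hi, hp, Or.inl rfl⟩
    obtain ⟨x, hx, y, hy, e, es⟩ : ∃ x ∈ posOf D Ψ, ∃ y ∈ posOf D Ψ, prs D C x y = -1 ∧ sumR C x y = a := by
      by_contra hcon
      exact hi ⟨ha, fun x hx y hy e es => hcon ⟨x, hx, y, hy, e, es⟩⟩
    have hφ := (h.sum_spec hx.2.2 hy.2.2 e).2.1
    rw [es] at hφ
    have h1 := h.toRooted.toChecked.ht_pos hx.2.2 hx.2.1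
    have h2 := h.toRooted.toChecked.ht_pos hy.2.2 hy.2.1
    have h3 := hφ _ h.toRooted.toChecked.isAdd_ht
    have h4 := hφ _ hψ
    by_cases hpx : 0 < ψ x
    · obtain ⟨α, a1, a2, a3⟩ := ih x hx (by push_cast at hk; omega) hpx
      refine ⟨α, a1, a2, Or.inr ?_⟩
      rcases a3 with rfl | a3 <;> omega
    · obtain ⟨α, a1, a2, a3⟩ := ih y hy (by push_cast at hk; omega) (by omega)
      refine ⟨α, a1, a2, Or.inr ?_⟩
      rcases a3 with rfl | a3 <;> omega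

theorem srefl_inv {α : ℕ} (hα : Indec D C Ψ α) {a : ℕ} (ha : a ∈ restSet D Ψ α) :
    srefl D C α (srefl D C α a) = a := by
  have hc := h.toRooted.toChecked
  have hne : ∀ b ∈ restSet D Ψ α, b ≠ α ∧ b ≠ ng D α := fun b hb =>
    ⟨hb.2, Checked.ne_ng_of_pos hα.1.2 hb.1.2 hc.two_mul_half⟩
  have ia := h.srefl_rest hΨ hα ha
  obtain ⟨hb, jb⟩ := h.srefl_spec hα.1.2.2 ia.1.2.2 (hne _ ia).1 (hne _ ia).2
  have ja := (h.srefl_spec hα.1.2.2 ha.1.2.2 (hne a ha).1 (hne a ha).2).2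
  refine h.eq_of_cd hb ha.1.2.2 ?_
  rw [jb _ hc.isAdd_cd, ja _ hc.isAdd_cd, h.prs_comm ia.1.2.2 hα.1.2.2, ja _ (h.isAdd_prs α),
    h.prs_self hα.1.2.2, h.prs_comm hα.1.2.2 ha.1.2.2]
  ring

theorem srefl_closed {α : ℕ} (hα : Indec D C Ψ α) {S : Set ℕ} (hS : S ⊆ restSet D Ψ α)
    (hcl : IsCl D C S) : IsCl D C (srefl D C α '' S) := by
  have hc := h.toRooted.toChecked
  have hne : ∀ b ∈ restSet D Ψ α, b ≠ α ∧ b ≠ ng D α := fun b hb =>
    ⟨hb.2, Checked.ne_ng_of_pos hα.1.2 hb.1.2 hc.two_mul_half⟩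
  have img : ∀ a ∈ S, srefl D C α a ∈ restSet D Ψ α ∧
      ∀ φ : ℕ → ℤ, IsAdd D C φ → φ (srefl D C α a) = φ a - prs D C a α * φ α := fun a ha =>
    ⟨h.srefl_rest hΨ hα (hS ha),
      (h.srefl_spec hα.1.2.2 (hS ha).1.2.2 (hne a (hS ha)).1 (hne a (hS ha)).2).2⟩
  refine ⟨by rintro _ ⟨a, ha, rfl⟩; exact (img a ha).1.1.2, ?_⟩
  rintro _ ⟨a, ha, rfl⟩ _ ⟨b, hb, rfl⟩ e'
  obtain ⟨ia, ja⟩ := img a ha
  obtain ⟨ib, jb⟩ := img b hb
  have p1 : prs D C a b = -1 := by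
    rw [jb _ (h.isAdd_prs _), h.prs_comm ia.1.2.2 (hS hb).1.2.2, ja _ (h.isAdd_prs b),
      h.prs_comm ia.1.2.2 hα.1.2.2, ja _ (h.isAdd_prs α), h.prs_self hα.1.2.2,
      h.prs_comm hα.1.2.2 (hS ha).1.2.2, h.prs_comm (hS hb).1.2.2 (hS ha).1.2.2] at e'
    linarith [e']
  have hs := hcl.2 a ha b hb p1
  refine ⟨sumR C a b, hs, h.eq_of_cd (img _ hs).1.1.2.2 (h.sum_spec ia.1.2.2 ib.1.2.2 e').1 ?_⟩
  rw [(img _ hs).2 _ hc.isAdd_cd, (h.sum_spec ia.1.2.2 ib.1.2.2 e').2.1 _ hc.isAdd_cd,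
    ja _ hc.isAdd_cd, jb _ hc.isAdd_cd, (h.sum_spec (hS ha).1.2.2 (hS hb).1.2.2 p1).2.1 _ hc.isAdd_cd,
    h.prs_comm (h.sum_spec (hS ha).1.2.2 (hS hb).1.2.2 p1).1 hα.1.2.2,
    (h.sum_spec (hS ha).1.2.2 (hS hb).1.2.2 p1).2.1 _ (h.isAdd_prs α), h.prs_comm hα.1.2.2 (hS ha).1.2.2,
    h.prs_comm hα.1.2.2 (hS hb).1.2.2]
  ring

theorem wel_rootGen [CharP F 2] {α : ℕ} (hα : Indec D C Ψ α) {S : Set ℕ} (hS : S ⊆ restSet D Ψ α)
    {v : GL D.Idx F} (hv : v ∈ rootGen D F S) :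
    wel h.toRooted.toChecked F α * v * (wel h.toRooted.toChecked F α)⁻¹ ∈
      rootGen D F (srefl D C α '' S) := by
  induction hv using Subgroup.closure_induction with
  | mem g hg =>
    obtain ⟨a, s, ha, e'⟩ := hg
    rw [show g = xg h.toRooted.toChecked a s from Units.ext (by rw [e', coe_xg]),
      h.wel_conj hα.1.2.2 (hS ha).1.2.2 (hS ha).2
        (Checked.ne_ng_of_pos hα.1.2 (hS ha).1.2 h.toRooted.toChecked.two_mul_half)]
    exact h.xg_mem (Set.mem_image_of_mem _ ha) s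
  | one => simp
  | mul v w _ _ hv hw => have := mul_mem hv hw; simpa [mul_assoc] using this
  | inv v _ hv => have := inv_mem hv; simpa [mul_assoc] using this

end Cfsg.Agent.Lib.InvE66.Laced

namespace Cfsg.Agent.Lib.InvE66T

open Cfsg.Lie Cfsg.Agent.Lib.Chev Cfsg.Agent.Lib.ChevCent Cfsg.Agent.Lib.InvE66
open scoped Matrix

variable {D : ChevalleyDatum} {C : Cert} {F : Type*} [Field F]

namespace Tw

variable {h : Laced D C} (T : Tw h F) {Ψ : Set ℕ} (hΨ : IsSub D C Ψ) (hst : T.Stable Ψ)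
include hΨ hst

local notation "X" => xg h.toRooted.toChecked
local notation "hgt" => Cfsg.Agent.Lib.Chev.ht
local notation "W" => wel h.toRooted.toChecked F

theorem sg_wel {α : ℕ} (hα : α < D.nroots) : W α ∈ D.group F ∧ T.sg (W α) = W (T.rho α) := by
  have hn := Checked.ng_lt (D := D) hα
  have a1 := T.xg_group hα (1 : F)
  have a2 := T.xg_group hn (1 : F)
  refine ⟨mul_mem (mul_mem a1 a2) a1, ?_⟩
  unfold wel
  rw [T.sg_mul _ (mul_mem a1 a2) _ a1, T.sg_mul _ a1 _ a2, T.sg_x α hα, T.sg_x _ hn, T.rho_ng hα, map_one]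

/-- The reflection in an orbit. -/
theorem exists_reflection [CharP F 2] {α : ℕ} (hα : Indec D C Ψ α) :
    ∃ (g : GL D.Idx F) (σ : ℕ → ℕ), g ∈ rootGen D F Ψ ∧ g ∈ T.fx ∧ g * g = 1 ∧
      ∀ S : Set ℕ, S ⊆ rest2 D Ψ α (T.rho α) → IsCl D C S →
        (∀ v ∈ rootGen D F S, g * v * g⁻¹ ∈ rootGen D F (σ '' S)) ∧ IsCl D C (σ '' S) ∧
        ∀ a ∈ S, σ a ∈ rest2 D Ψ α (T.rho α) ∧ σ (σ a) = a ∧
          Cfsg.Agent.Lib.Chev.ht D C (σ a) = Cfsg.Agent.Lib.Chev.ht D C a - Cfsg.Agent.Lib.Chev.ht D C α *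
            (prs D C a α + if T.rho α = α then 0 else prs D C a (T.rho α)) := by
  have hc := h.toRooted.toChecked
  have hα' := T.indec_rho hΨ hst hα
  obtain ⟨hWg, hWs⟩ := T.sg_wel hΨ hst hα.1.2.2
  obtain ⟨hWg', hWs'⟩ := T.sg_wel hΨ hst hα'.1.2.2
  rw [T.rho_rho hα.1.2.2] at hWs'
  have hmem : ∀ β, Indec D C Ψ β → W β ∈ rootGen D F Ψ := fun β hβ =>
    mul_mem (mul_mem (h.xg_mem hβ.1.1 1) (h.xg_mem (hΨ.ng_mem β hβ.1.1) 1)) (h.xg_mem hβ.1.1 1)
  have spec : ∀ β, Indec D C Ψ β → ∀ a ∈ restSet D Ψ β, ∀ φ : ℕ → ℤ, IsAdd D C φ →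
      φ (srefl D C β a) = φ a - prs D C a β * φ β := fun β hβ a ha =>
    (h.srefl_spec hβ.1.2.2 ha.1.2.2 ha.2 (Checked.ne_ng_of_pos hβ.1.2 ha.1.2 hc.two_mul_half)).2
  by_cases e : T.rho α = α
  · refine ⟨W α, srefl D C α, hmem α hα, ⟨hWg, by rw [hWs, e]⟩, h.wel_mul_self α, fun S hS hcl => ?_⟩
    have hS1 : S ⊆ restSet D Ψ α := fun a ha => T.rest2_left hΨ hst hα (hS ha)
    refine ⟨fun v hv => h.wel_rootGen hΨ hα hS1 hv, h.srefl_closed hΨ hα hS1 hcl,
      fun a ha => ⟨?_, h.srefl_inv hΨ hα (hS1 ha), ?_⟩⟩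
    · have := h.srefl_rest hΨ hα (hS1 ha)
      exact T.mem_rest2 hΨ hst hα this.1 this.2 (by rw [e]; exact this.2)
    · rw [spec α hα a (hS1 ha) _ hc.isAdd_ht, if_pos e]; ring
  · have p0 : prs D C α (T.rho α) = 0 := (T.rho_orth hα.1.2.2).resolve_left e
    have hcomm : Commute (W α) (W (T.rho α)) := by
      have hx : ∀ a b, (a = α ∨ a = ng D α) → (b = T.rho α ∨ b = ng D (T.rho α)) →
          Commute (X a (1 : F)) (X b 1) := by
        have hn := Checked.ng_lt (D := D) hα.1.2.2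
        have hn' := Checked.ng_lt (D := D) hα'.1.2.2
        have q1 : prs D C α (ng D (T.rho α)) = 0 := by rw [h.prs_ng hα'.1.2.2, p0, neg_zero]
        have q2 : prs D C (ng D α) (T.rho α) = 0 := by
          rw [h.prs_comm hn hα'.1.2.2, h.prs_ng hα.1.2.2, h.prs_comm hα'.1.2.2 hα.1.2.2, p0, neg_zero]
        have q3 : prs D C (ng D α) (ng D (T.rho α)) = 0 := by rw [h.prs_ng hα'.1.2.2, q2, neg_zero]
        rintro a b (rfl | rfl) (rfl | rfl)
        · exact h.commute_of_nonneg hα.1.2.2 hα'.1.2.2 p0.ge _ _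
        · exact h.commute_of_nonneg hα.1.2.2 hn' q1.ge _ _
        · exact h.commute_of_nonneg hn hα'.1.2.2 q2.ge _ _
        · exact h.commute_of_nonneg hn hn' q3.ge _ _
      unfold wel
      refine ((Commute.mul_left ?_ ?_).mul_left ?_) <;>
        exact ((hx _ _ (by simp) (Or.inl rfl)).mul_right (hx _ _ (by simp) (Or.inr rfl))).mul_right
          (hx _ _ (by simp) (Or.inl rfl))
    refine ⟨W α * W (T.rho α), fun a => srefl D C α (srefl D C (T.rho α) a), mul_mem (hmem α hα) (hmem _ hα'),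
      ⟨mul_mem hWg hWg', by rw [T.sg_mul _ hWg _ hWg', hWs, hWs']; exact hcomm.eq.symm⟩,
      by rw [← hcomm.mul_mul_mul_comm, h.wel_mul_self, h.wel_mul_self, mul_one], fun S hS hcl => ?_⟩
    have hS1 : S ⊆ restSet D Ψ (T.rho α) := fun a ha => T.rest2_right hΨ hst hα (hS ha)
    -- images under the second reflection stay outside the orbit
    have hkeep : ∀ a ∈ rest2 D Ψ α (T.rho α), srefl D C (T.rho α) a ∈ rest2 D Ψ α (T.rho α) ∧
        srefl D C α a ∈ rest2 D Ψ α (T.rho α) := by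
      intro a ha
      have h1 := T.rest2_right hΨ hst hα ha
      have h2 := T.rest2_left hΨ hst hα ha
      have f1 : srefl D C (T.rho α) α = α := by
        rw [srefl, if_neg (by omega), if_neg (by omega)]
      have f2 : srefl D C α (T.rho α) = T.rho α := by
        have p0' : prs D C (T.rho α) α = 0 := by rw [h.prs_comm hα'.1.2.2 hα.1.2.2, p0]
        rw [srefl, if_neg (by omega), if_neg (by omega)]
      have i1 := h.srefl_rest hΨ hα' h1
      have i2 := h.srefl_rest hΨ hα h2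
      refine ⟨T.mem_rest2 hΨ hst hα i1.1 (fun e' => ?_) i1.2, T.mem_rest2 hΨ hst hα i2.1 i2.2 (fun e' => ?_)⟩
      · have := h.srefl_inv hΨ hα' h1
        rw [e', f1] at this
        exact h2.2 this.symm
      · have := h.srefl_inv hΨ hα h2
        rw [e', f2] at this
        exact h1.2 this.symm
    set S1 := srefl D C (T.rho α) '' S with hS1def
    have hS2 : S1 ⊆ restSet D Ψ α := by
      rintro _ ⟨a, ha, rfl⟩
      exact T.rest2_left hΨ hst hα (hkeep a (hS ha)).1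
    refine ⟨fun v hv => ?_, ?_, fun a ha => ?_⟩
    · have h1 := h.wel_rootGen hΨ hα' hS1 hv
      have h2 := h.wel_rootGen hΨ hα hS2 h1
      rw [show W α * W (T.rho α) * v * (W α * W (T.rho α))⁻¹ =
        W α * (W (T.rho α) * v * (W (T.rho α))⁻¹) * (W α)⁻¹ by group]
      rw [hS1def, Set.image_image] at h2
      exact h2
    · have := h.srefl_closed hΨ hα hS2 (h.srefl_closed hΨ hα' hS1 hcl)
      rwa [hS1def, Set.image_image] at this
    · obtain ⟨k1, -⟩ := hkeep a (hS ha)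
      obtain ⟨-, k2⟩ := hkeep _ k1
      refine ⟨k2, ?_, ?_⟩
      · obtain ⟨k3, -⟩ := hkeep _ k2
        have hα2 : T.rho α ∈ posOf D Ψ := hα'.1
        -- the two reflections commute
        have hcm : ∀ b ∈ rest2 D Ψ α (T.rho α),
            srefl D C (T.rho α) (srefl D C α b) = srefl D C α (srefl D C (T.rho α) b) := by
          intro b hb
          obtain ⟨u1, u2⟩ := hkeep b hb
          refine h.eq_of_cd (hkeep _ u2).1.1.2.2 (hkeep _ u1).2.1.2.2 ?_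
          rw [spec _ hα' _ (T.rest2_right hΨ hst hα u2) _ hc.isAdd_cd,
            spec _ hα b (T.rest2_left hΨ hst hα hb) _ hc.isAdd_cd,
            spec _ hα _ (T.rest2_left hΨ hst hα u1) _ hc.isAdd_cd,
            spec _ hα' b (T.rest2_right hΨ hst hα hb) _ hc.isAdd_cd,
            h.prs_comm u2.1.2.2 hα'.1.2.2, spec _ hα b (T.rest2_left hΨ hst hα hb) _ (h.isAdd_prs _),
            h.prs_comm u1.1.2.2 hα.1.2.2, spec _ hα' b (T.rest2_right hΨ hst hα hb) _ (h.isAdd_prs _),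
            h.prs_comm hα'.1.2.2 hα.1.2.2, p0, h.prs_comm hα'.1.2.2 hb.1.2.2,
            h.prs_comm hα.1.2.2 hb.1.2.2]
          ring
        show srefl D C α (srefl D C (T.rho α) (srefl D C α (srefl D C (T.rho α) a))) = a
        rw [hcm _ k1, h.srefl_inv hΨ hα' (T.rest2_right hΨ hst hα (hS ha)),
          h.srefl_inv hΨ hα (T.rest2_left hΨ hst hα (hS ha))]
      · rw [spec _ hα _ (T.rest2_left hΨ hst hα k1) _ hc.isAdd_ht,
          spec _ hα' a (hS1 ha) _ hc.isAdd_ht, h.prs_comm k1.1.2.2 hα.1.2.2,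
          spec _ hα' a (hS1 ha) _ (h.isAdd_prs α), p0, if_neg e, T.rho_ht hα.1.2.2,
          h.prs_comm hα.1.2.2 (hS ha).1.2.2]
        ring

/-- Some fixed conjugate needs an indecomposable root. -/
theorem descend [CharP F 2] : ∀ (k : ℕ) (u : GL D.Idx F), u ∈ rootGen D F (posOf D Ψ) → u ∈ T.fx →
    u ∉ rootGen D F {γ | γ ∈ posOf D Ψ ∧ (k : ℤ) + 1 ≤ hgt D C γ} →
    ∃ g ∈ rootGen D F Ψ, g ∈ T.fx ∧ ∃ r, Indec D C Ψ r ∧ g * u * g⁻¹ ∈ rootGen D F (posOf D Ψ) ∧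
      g * u * g⁻¹ ∉ rootGen D F (restSet D Ψ r) := by
  intro k
  induction k with
  | zero =>
    intro u hu _ hnot
    refine absurd (rootGen_mono ?_ hu) hnot
    intro a ha
    have := h.toRooted.toChecked.ht_pos ha.2.2 ha.2.1
    exact ⟨ha, by push_cast; omega⟩
  | succ k ih =>
    intro u hu huf hnot
    by_cases hlow : u ∈ rootGen D F {γ | γ ∈ posOf D Ψ ∧ (k : ℤ) + 1 ≤ hgt D C γ}
    swap
    · exact ih u hu huf hlow
    have hc := h.toRooted.toChecked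
    set S : Set ℕ := {γ | γ ∈ posOf D Ψ ∧ (k : ℤ) + 1 ≤ hgt D C γ} with hS
    have hclS : IsCl D C S := closed_high (h := h) hΨ _
    have hnot' : u ∉ rootGen D F {γ | γ ∈ posOf D Ψ ∧ (k : ℤ) + 1 + 1 ≤ hgt D C γ} := by
      simpa [add_assoc] using hnot
    obtain ⟨γ, hγ, hγk, hneed⟩ := h.exists_needed hΨ hlow hnot'
    by_cases hi : Indec D C Ψ γ
    · refine ⟨1, one_mem _, one_mem _, γ, hi, by simpa using hu, ?_⟩
      simp only [one_mul, inv_one, mul_one]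
      intro hmem
      have hclr : ClosedSet D C (restSet D Ψ γ) := h.closed_of_sum (fun _ ha => ha.1.2.2) fun a ha b hb e =>
        (h.rest_sum hΨ hi ha hb e).1
      refine hneed (rootGen_mono ?_ (h.toRooted.mem_rootGen_inter (fun a ha => ha.1.2) (fun a ha => ha.1.2)
        (h.closed_highSet hΨ _) hclr hlow hmem))
      rintro a ⟨ha, -, hb⟩
      exact ⟨ha, hb⟩
    set ψ : ℕ → ℤ := fun a => prs D C γ a + prs D C (T.rho γ) a with hψdef
    have hψ : IsAdd D C ψ := by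
      refine ⟨fun a ha => ?_, fun a ha s j u M hk => ?_⟩
      · simp only [ψ, (h.isAdd_prs γ).map_ng a ha, (h.isAdd_prs (T.rho γ)).map_ng a ha]; ring
      · simp only [ψ, (h.isAdd_prs γ).map_chain a ha s j u M hk,
          (h.isAdd_prs (T.rho γ)).map_chain a ha s j u M hk]
        ring
    have hψγ : 0 < ψ γ := by
      show 0 < prs D C γ γ + prs D C (T.rho γ) γ
      rw [h.prs_self hγ.2.2, h.prs_comm (T.rho_lt hγ.2.2) hγ.2.2]
      rcases T.rho_orth hγ.2.2 with e | e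
      · rw [e, h.prs_self hγ.2.2]; norm_num
      · rw [e]; norm_num
    obtain ⟨α, hα, hψα, hcase⟩ := h.exists_indec_pos hΨ ψ hψ (hgt D C γ).toNat γ hγ
      (by rw [Int.toNat_of_nonneg (le_of_lt (hc.ht_pos hγ.2.2 hγ.2.1))]) hψγ
    have hlt : hgt D C α < (k : ℤ) + 1 := by
      rcases hcase with rfl | hlt
      · exact absurd hα hi
      · omega
    have hsub : S ⊆ rest2 D Ψ α (T.rho α) := by
      intro a ha
      refine T.mem_rest2 hΨ hst hα ha.1 (fun e => ?_) (fun e => ?_)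
      · subst e; exact absurd ha.2 (by omega)
      · subst e
        have := ha.2
        rw [T.rho_ht hα.1.2.2] at this
        omega
    obtain ⟨g, σ, hgΨ, hgf, hg2, hgS⟩ := T.exists_reflection hΨ hst (F := F) hα
    obtain ⟨hconj, hclS', himg⟩ := hgS S hsub hclS
    set u' := g * u * g⁻¹ with hu'
    have hu'S : u' ∈ rootGen D F (σ '' S) := hconj u hlow
    have hu'P : u' ∈ rootGen D F (posOf D Ψ) := rootGen_mono (by
      rintro _ ⟨a, ha, rfl⟩
      exact (himg a ha).1.1) hu'S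
    have hu'f : u' ∈ T.fx := mul_mem (mul_mem hgf huf) (inv_mem hgf)
    have hnot'' : u' ∉ rootGen D F S := by
      intro hu''
      have hmem := h.toRooted.mem_rootGen_inter (S := σ '' S) (T := S) hclS'.1 hclS.1
        (h.closed_of_cl hclS') (h.closed_of_cl hclS) hu'S hu''
      have hclI : IsCl D C (σ '' S ∩ S) :=
        ⟨fun a ha => hclS.1 ha.2, fun a ha b hb e => ⟨hclS'.2 a ha.1 b hb.1 e, hclS.2 a ha.2 b hb.2 e⟩⟩
      have hback := (hgS (σ '' S ∩ S) (fun a ha => hsub ha.2) hclI).1 u' hmem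
      have hginv : g⁻¹ = g := inv_eq_of_mul_eq_one_right hg2
      rw [hu', hginv, show g * (g * u * g) * g = g * g * u * (g * g) by simp only [mul_assoc], hg2, one_mul,
        mul_one] at hback
      refine hneed (rootGen_mono ?_ hback)
      rintro _ ⟨_, ⟨⟨a, ha, rfl⟩, hb⟩, rfl⟩
      rw [(himg a ha).2.1]
      refine ⟨ha, fun e => ?_⟩
      rw [Set.mem_singleton_iff] at e
      subst e
      have h6 := hb.2
      rw [(himg _ ha).2.2] at h6
      have hhα := hc.ht_pos hα.1.2.2 hα.1.2.1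
      have hpos : 1 ≤ prs D C a α + if T.rho α = α then 0 else prs D C a (T.rho α) := by
        have e2 : prs D C (T.rho a) α = prs D C a (T.rho α) := T.prs_left ha.1.2.2 hα.1.2.2
        have hψα' : 0 < prs D C a α + prs D C a (T.rho α) := by rw [← e2]; exact hψα
        split_ifs with e3
        · rw [e3] at hψα'; omega
        · omega
      nlinarith
    obtain ⟨g', hg', hgf', r, hr, h1, h2⟩ := ih u' hu'P hu'f hnot''
    refine ⟨g' * g, mul_mem hg' hgΨ, mul_mem hgf' hgf, r, hr, ?_, ?_⟩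
    · simpa [hu', mul_assoc] using h1
    · simpa [hu', mul_assoc] using h2

end Tw

end Cfsg.Agent.Lib.InvE66T
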