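import Cfsg.Agent.Lib.InvE66T.E6Data
import Cfsg.Agent.Lib.InvE66.Final
import Cfsg.Agent.Lib.InvE66.E6Ranks
import Cfsg.Agent.Lib.Twisted.Core.E6Group

/-!
The classes of involutions of `²E₆(q)` for even `q`.
-/

set_option autoImplicit false
set_option maxRecDepth 100000

namespace Cfsg.Agent.Lib.InvE66T.E6

open Cfsg.Lie Cfsg.Agent.Lib.Chev Cfsg.Agent.Lib.ChevCent Cfsg.Agent.Lib.InvE66 Cfsg.Agent.Lib.InvE66T
open Cfsg.Agent.Lib.Twisted Cfsg.Agent.Lib.Twisted.Core
open scoped Matrix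

theorem laced : Laced chevE6 Cfsg.Agent.Lib.Chev.E6.cert :=
  { toRooted := ⟨checked_E6, descent_E6⟩, laced_ok := by decide +kernel }

theorem root_eq : allN chevE6.nroots (fun r => Nat.beq (e6Graph.root r) (E6.rho r)) = true := by decide +kernel

theorem orbWords_eq : ∀ k < 4, orbWords.getD k [] = (List.ofFn e6Orb).getD k [] := by decide +kernel

variable {K : Type*} [Field K] [Fintype K] [CharP K 2] (φ : K ≃+* K) (h2 : ∀ t, φ (φ t) = t)

/-- The endomorphism of `E₆(K)` in characteristic two. -/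
noncomputable def tw : Tw laced K where
  rho := E6.rho
  phi := φ
  sg := (e6Twist φ).sig
  ok := sym_ok
  phi_phi := h2
  sg_mul a ha b hb := (e6Twist φ).sig_mul ha hb
  sg_mem a ha := (e6Twist φ).sig_mem ha
  sg_x r hr t := by
    have e : e6Graph.root r = E6.rho r := natBeq_iff.1 ((allN_iff.1 root_eq) r hr)
    have hsign : ((e6Graph.sign r : ℤ) : K) = 1 := by
      have := e6Graph_facts.sign_sq r hr
      rcases Int.mul_eq_one_iff_eq_one_or_neg_one.1 this with ⟨h1, -⟩ | ⟨h1, -⟩ <;> rw [h1] <;>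
        simp [CharTwo.neg_eq]
    have hr' : E6.rho r < chevE6.nroots := e ▸ e6Graph_facts.root_lt r hr
    rw [xg, dif_pos hr, xg, dif_pos hr']
    refine ((e6Twist φ).sig_x hr t).trans ?_
    rw [show (e6Twist φ).f r t = φ t by
      show ((e6Graph.sign r : ℤ) : K) * φ t = φ t
      rw [hsign, one_mul]]
    exact laced.toRooted.toChecked.xGL_congr e _ _ _

variable {q : ℕ}

theorem twisted_eq_fx (hq : IsPrimePow q) (hK : Fintype.card K = q ^ 2) (hφ : ∀ t, φ t = t ^ q) :
    twistedE6 K q = (tw φ h2).fx := by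
  refine ((e6Orbits hq hK φ hφ h2).system.eq_fixedGroup).trans ?_
  ext g
  exact (e6Twist φ).mem_fixedGroup.trans Iff.rfl

theorem nProd_fixed (hq : IsPrimePow q) (hK : Fintype.card K = q ^ 2) (hφ : ∀ t, φ t = t ^ q) (k : ℕ) :
    nProd laced.toRooted.toChecked K (orbWords.getD k []) ∈ (tw φ h2).fx := by
  by_cases hk : k < 4
  · rw [← twisted_eq_fx φ h2 hq hK hφ, orbWords_eq k hk]
    have h1 := (e6Orbits hq hK φ hφ h2).orbN_mem ⟨k, hk⟩ (fun _ => 1) (fun i _ => (map_one φ).symm)
    rw [orbN_one] at h1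
    rw [List.getD_eq_getElem _ _ (by simpa using hk), List.getElem_ofFn]
    exact h1
  · rw [List.getD_eq_default _ _ (by simp only [orbWords, List.length_cons, List.length_nil]; omega)]
    rw [show nProd laced.toRooted.toChecked K [] = 1 by simp [nProd]]
    exact one_mem _

include h2 in
theorem exists_al (hq : IsPrimePow q) (hK : Fintype.card K = q ^ 2) (hφ : ∀ t, φ t = t ^ q) :
    ∃ al : K, al + φ al = 1 := by
  obtain ⟨t, ht⟩ : ∃ t : K, φ t ≠ t := by
    by_contra hcon
    push Not at hcon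
    have h1 := e6_fix_card hq hK hφ
    rw [Nat.card_congr (Equiv.subtypeUnivEquiv (p := fun a : K => φ a = a) hcon), Nat.card_eq_fintype_card,
      hK] at h1
    nlinarith [hq.one_lt]
  have h0 : t + φ t ≠ 0 := fun e => ht (CharTwo.add_eq_zero.1 e).symm
  refine ⟨t / (t + φ t), ?_⟩
  rw [map_div₀, map_add, h2, add_comm (φ t) t, ← add_div, div_self h0]

include h2 in
theorem exists_rep (hq : IsPrimePow q) (hK : Fintype.card K = q ^ 2) (hφ : ∀ t, φ t = t ^ q) (heven : 2 ∣ q)
    {g : GL chevE6.Idx K} (hg : g ∈ twistedE6 K q) (hord : orderOf g = 2) :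
    ∃ k, 1 ≤ k ∧ k < 4 ∧
      (tw φ h2).Rel g (prodX laced.toRooted.toChecked K (E6.tab.reps.getD k [])) := by
  classical
  set T := tw φ h2 with hT
  have hG := twisted_eq_fx φ h2 hq hK hφ
  have hc := laced.toRooted.toChecked
  obtain ⟨al, hal⟩ := exists_al φ h2 hq hK hφ
  haveI : Fact (Nat.Prime 2) := ⟨Nat.prime_two⟩
  obtain ⟨m, hm⟩ : ∃ m, q = 2 ^ m := by
    obtain ⟨p, j, hp, -, rfl⟩ := (isPrimePow_nat_iff _).1 hq
    have hp2 : 2 = p := (Nat.prime_dvd_prime_iff_eq Nat.prime_two hp).1 (Nat.prime_two.dvd_of_dvd_pow heven)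
    exact ⟨j, by rw [hp2]⟩
  -- a Sylow subgroup
  set P : Subgroup ↥(twistedE6 K q) := (chevE6.posUnipotent K ⊓ twistedE6 K q).subgroupOf (twistedE6 K q) with hP
  have hcardP : Nat.card ↥P = q ^ 36 := by
    rw [hP, Nat.card_congr (Subgroup.subgroupOfEquivOfLe inf_le_right).toEquiv]
    exact e6_card_pos hq hK
  have hPp : IsPGroup 2 ↥P := IsPGroup.of_card (n := m * 36) (by rw [hcardP, hm, ← pow_mul])
  have hidx : ¬ 2 ∣ P.index := by
    intro hd
    have h1 := e6_card hq hK
    rw [← P.card_mul_index, hcardP] at h1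
    have e : Nat.gcd 3 (q + 1) * P.index =
        (q ^ 2 - 1) * (q ^ 5 + 1) * (q ^ 6 - 1) * (q ^ 8 - 1) * (q ^ 9 + 1) * (q ^ 12 - 1) := by
      apply Nat.eq_of_mul_eq_mul_left (show 0 < q ^ 36 from pow_pos hq.pos 36)
      rw [mul_left_comm, h1]; ring
    have hdvd : 2 ∣ (q ^ 2 - 1) * (q ^ 5 + 1) * (q ^ 6 - 1) * (q ^ 8 - 1) * (q ^ 9 + 1) * (q ^ 12 - 1) :=
      e ▸ hd.mul_left _
    have hev : ∀ n, n ≠ 0 → 2 ∣ q ^ n ∧ 1 ≤ q ^ n := fun n hn =>
      ⟨dvd_pow heven hn, Nat.one_le_pow _ _ hq.pos⟩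
    simp only [Nat.prime_two.dvd_mul] at hdvd
    have := hev 2 (by norm_num); have := hev 5 (by norm_num); have := hev 6 (by norm_num)
    have := hev 8 (by norm_num); have := hev 9 (by norm_num); have := hev 12 (by norm_num)
    rcases hdvd with ((((h | h) | h) | h) | h) | h <;> omega
  let g' : ↥(twistedE6 K q) := ⟨g, hg⟩
  have hord' : orderOf g' = 2 := by rw [← Subgroup.orderOf_coe]; exact hord
  obtain ⟨Q, hQ⟩ := (IsPGroup.of_card (n := 1) (by rw [Nat.card_zpowers, hord', pow_one]) :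
    IsPGroup 2 ↥(Subgroup.zpowers g')).exists_le_sylow
  obtain ⟨k, hk⟩ := MulAction.exists_smul_eq ↥(twistedE6 K q) Q (hPp.toSylow hidx)
  have hmem : k * g' * k⁻¹ ∈ (hPp.toSylow hidx : Subgroup ↥(twistedE6 K q)) := by
    rw [← hk]
    exact ⟨g', hQ (Subgroup.mem_zpowers g'), rfl⟩
  have hu : (k : GL chevE6.Idx K) * g * (k : GL chevE6.Idx K)⁻¹ ∈ chevE6.posUnipotent K := hmem.1
  have hkf : (k : GL chevE6.Idx K) ∈ T.fx := hG ▸ k.2
  have hgf : g ∈ T.fx := hG ▸ hg
  set u := (k : GL chevE6.Idx K) * g * (k : GL chevE6.Idx K)⁻¹ with hudef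
  rw [hc.posUnipotent_eq] at hu
  have hset : posOf chevE6 (orthSet chevE6 Chev.E6.cert []) = posSet chevE6 := by
    ext a
    exact ⟨fun ha => ha.2, fun ha => ⟨⟨ha.2, by simp⟩, ha⟩⟩
  rw [← hset] at hu
  have hsq : g * g = 1 := by rw [← pow_two, ← hord, pow_orderOf_eq_one]
  obtain ⟨z, -, hzf, os, hos, hosp, e⟩ := T.exists_orth hal _ [] (by simp) (by simp) le_rfl u hu
    (mul_mem (mul_mem hkf hgf) (inv_mem hkf)) (by
      calc _ = (k : GL chevE6.Idx K) * (g * g) * (k : GL chevE6.Idx K)⁻¹ := by rw [hudef]; group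
        _ = 1 := by rw [hsq]; group)
  have hOW : chkOW chevE6 Chev.E6.cert T.rho orbWords = true := orbWords_ok
  have hN : ∀ i, nProd laced.toRooted.toChecked K (orbWords.getD i []) ∈ T.fx := nProd_fixed φ h2 hq hK hφ
  have hosn : ∀ r ∈ os, r < chevE6.nroots := fun r hr =>
    (hos r (List.mem_flatMap.2 ⟨r, hr, by unfold orbL; split_ifs <;> simp⟩)).2.2
  obtain ⟨W, j, hj, eW⟩ := T.exists_tmove hOW treps_ok trows_ok os hosn hosp
  have R1 : T.Rel g (prodX laced.toRooted.toChecked K (E6.tab.reps.getD j [])) := by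
    refine Tw.Rel.trans ⟨z * k, mul_mem hzf hkf, ?_⟩
      (T.rel_move hOW hN W (fun r hr => (hos r hr).2.2) (Tw.tab_flat treps_ok j) eW)
    rw [← e, hudef]; group
  -- the reductions
  have mk : ∀ i, (∀ r ∈ E6.tab.reps.getD i [], r ∈ posSet chevE6) := fun i =>
    (Laced.chkFlat_spec (Tw.tab_flat treps_ok i)).1
  have posb : ∀ L : List ℕ, L.all (fun r => Nat.ble 36 r && Nat.blt r 72) = true → ∀ r ∈ L, r ∈ posSet chevE6 := by
    intro L hL r hr
    have := List.all_eq_true.1 hL r hr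
    simp only [Bool.and_eq_true, Nat.ble_eq, Nat.blt_eq] at this
    exact ⟨this.1, this.2⟩
  have nfr : ∀ (gs S A : List ℕ), (∀ r ∈ gs, r < chevE6.nroots) → (∀ r ∈ orbsL E6.rho gs, r ∈ posSet chevE6) →
      (∀ r ∈ S, r ∈ posSet chevE6) → (∀ r ∈ A, r ∈ posSet chevE6) →
      nfW chevE6 Chev.E6.cert (orbsL E6.rho gs ++ S ++ (orbsL E6.rho gs).reverse) = nfW chevE6 Chev.E6.cert A →
      T.Rel (prodX laced.toRooted.toChecked K S) (prodX laced.toRooted.toChecked K A) :=
    fun gs S A a b c d e => T.rel_nf gs a b c d e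
  have red5 : T.Rel (prodX laced.toRooted.toChecked K (E6.tab.reps.getD 5 []))
      (prodX laced.toRooted.toChecked K (E6.tab.reps.getD 3 [])) :=
    nfr [63, 53, 52] _ _ (by decide) (posb _ (by decide +kernel)) (mk 5) (mk 3) (by decide +kernel)
  have red7 : T.Rel (prodX laced.toRooted.toChecked K (E6.tab.reps.getD 7 []))
      (prodX laced.toRooted.toChecked K (E6.tab.reps.getD 6 [])) :=
    nfr [63, 51, 44, 47] _ _ (by decide) (posb _ (by decide +kernel)) (mk 7) (mk 6) (by decide +kernel)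
  have move : ∀ (W : List ℕ) (M : List ℕ), (∀ r ∈ M, r < chevE6.nroots) →
      T.Rel (prodX laced.toRooted.toChecked K M)
        (prodX laced.toRooted.toChecked K (M.map (perm Chev.E6.cert (wordOf orbWords W)))) := fun W M hM =>
    ⟨_, T.nProd_wordOf hN W, laced.nProd_conj (T.wordOf_spec hOW W).1 M hM⟩
  have red4 : T.Rel (prodX laced.toRooted.toChecked K (E6.tab.reps.getD 4 []))
      (prodX laced.toRooted.toChecked K (E6.tab.reps.getD 1 [])) := by
    have s1 : T.Rel (prodX laced.toRooted.toChecked K [36, 56])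
        (prodX laced.toRooted.toChecked K [18, 36, 56]) :=
      T.rel_special hal (r := 36) (x := 17) (rest := []) (by decide) (by decide)
        (show E6.rho 36 ≠ 36 by decide +kernel) (show E6.rho 17 ≠ 17 by decide +kernel) (by decide +kernel)
        (show 0 ≤ prs chevE6 Chev.E6.cert (E6.rho 36) 17 by decide +kernel)
        (show E6.rho (sumR Chev.E6.cert 36 17) = sumR Chev.E6.cert 36 17 by decide +kernel) (by simp)
    have s2 : T.Rel (prodX laced.toRooted.toChecked K [18, 36, 56])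
        (prodX laced.toRooted.toChecked K [39, 41, 58]) :=
      (show [18, 36, 56].map (perm Chev.E6.cert (wordOf orbWords [1, 2, 0, 1])) = [39, 41, 58] by
        decide +kernel) ▸ move [1, 2, 0, 1] [18, 36, 56] (by decide)
    have s3 : T.Rel (prodX laced.toRooted.toChecked K [39, 60])
        (prodX laced.toRooted.toChecked K [39, 41, 58]) :=
      nfr [38] _ _ (by decide) (posb _ (by decide +kernel)) (posb _ (by decide +kernel))
        (posb _ (by decide +kernel)) (by decide +kernel)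
    have s4 : T.Rel (prodX laced.toRooted.toChecked K [39, 60])
        (prodX laced.toRooted.toChecked K (E6.tab.reps.getD 4 [])) :=
      T.rel_move hOW hN [3] (by decide) (Tw.tab_flat treps_ok 4) (List.isPerm_iff.1 (by decide +kernel))
    exact ((s4.symm.trans s3).trans s2.symm).trans s1.symm
  have red6 : T.Rel (prodX laced.toRooted.toChecked K (E6.tab.reps.getD 6 []))
      (prodX laced.toRooted.toChecked K (E6.tab.reps.getD 3 [])) := by
    have s1 : T.Rel (prodX laced.toRooted.toChecked K [36, 56, 39])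
        (prodX laced.toRooted.toChecked K [27, 36, 56, 39]) :=
      T.rel_special hal (r := 36) (x := 26) (rest := [39]) (by decide) (by decide)
        (show E6.rho 36 ≠ 36 by decide +kernel) (show E6.rho 26 ≠ 26 by decide +kernel) (by decide +kernel)
        (show 0 ≤ prs chevE6 Chev.E6.cert (E6.rho 36) 26 by decide +kernel)
        (show E6.rho (sumR Chev.E6.cert 36 26) = sumR Chev.E6.cert 36 26 by decide +kernel)
        (show ∀ b ∈ [39], b < chevE6.nroots ∧ 0 ≤ prs chevE6 Chev.E6.cert 26 b ∧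
          0 ≤ prs chevE6 Chev.E6.cert (E6.rho 26) b by decide +kernel)
    have s2 : T.Rel (prodX laced.toRooted.toChecked K [27, 36, 56, 39])
        (prodX laced.toRooted.toChecked K [39, 41, 58, 44]) :=
      (show [27, 36, 56, 39].map (perm Chev.E6.cert (wordOf orbWords [1, 2])) = [39, 41, 58, 44] by
        decide +kernel) ▸ move [1, 2] [27, 36, 56, 39] (by decide)
    have s3 : T.Rel (prodX laced.toRooted.toChecked K (E6.tab.reps.getD 6 []))
        (prodX laced.toRooted.toChecked K [39, 41, 58, 44]) :=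
      nfr [38] _ _ (by decide) (posb _ (by decide +kernel)) (mk 6)
        (posb _ (by decide +kernel)) (by decide +kernel)
    have s0 : prodX laced.toRooted.toChecked K [36, 56, 39] =
        prodX laced.toRooted.toChecked K (E6.tab.reps.getD 3 []) :=
      laced.prodX_perm (Tw.tab_flat treps_ok 3) (List.isPerm_iff.1 (by decide +kernel))
    rw [s0] at s1
    exact (s3.trans s2.symm).trans s1.symm
  have hj8 : j < 8 := hj
  interval_cases j
  · obtain ⟨w, -, ew⟩ := R1
    rw [show E6.tab.reps.getD 0 [] = [] from rfl, laced.prodX_nil, conj_eq_one_iff] at ew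
    subst ew
    rw [orderOf_one] at hord
    omega
  · exact ⟨1, le_rfl, by norm_num, R1⟩
  · exact ⟨2, by norm_num, by norm_num, R1⟩
  · exact ⟨3, by norm_num, by norm_num, R1⟩
  · exact ⟨1, le_rfl, by norm_num, R1.trans red4⟩
  · exact ⟨3, by norm_num, by norm_num, R1.trans red5⟩
  · exact ⟨3, by norm_num, by norm_num, R1.trans red6⟩
  · exact ⟨3, by norm_num, by norm_num, (R1.trans red7).trans red6⟩

theorem rank_aux {F : Type*} [Field F] [CharP F 2] {W M R : List ℕ} (hW : W.all (fun i => Nat.blt i 6) = true)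
    (hM : ∀ r ∈ M, r < chevE6.nroots) (hR : chkFlat chevE6 Chev.E6.cert R = true)
    (e : (M.map (perm Chev.E6.cert W)).isPerm R = true) :
    (((prodX laced.toRooted.toChecked F M : GL chevE6.Idx F) : Matrix chevE6.Idx chevE6.Idx F) - 1).rank =
      (((prodX laced.toRooted.toChecked F R : GL chevE6.Idx F) : Matrix chevE6.Idx chevE6.Idx F) - 1).rank := by
  have hW' : IsWord chevE6 W := fun i hi => Nat.le_of_ble_eq_true (List.all_eq_true.1 hW i hi)
  rw [← laced.prodX_perm hR (List.isPerm_iff.1 e), ← laced.nProd_conj hW' M hM, rank_sub_one_conj]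

theorem reps_spec {F : Type*} [Field F] [CharP F 2] {k : ℕ} (h1 : 1 ≤ k) (h4 : k < 4) :
    (((prodX laced.toRooted.toChecked F (E6.tab.reps.getD k []) : GL chevE6.Idx F) :
      Matrix chevE6.Idx chevE6.Idx F) - 1).rank = [0, 32, 22, 38].getD k 0 := by
  have hl := laced
  interval_cases k
  · have e := rank_aux (F := F) (W := [5, 4, 3, 0, 2, 1, 3, 4, 1, 3, 2]) (M := E6.tab.reps.getD 1 [])
      (R := InvE66.E6.tab.reps.getD 2 []) (by decide +kernel) (by decide +kernel) (hl.rep_flat InvE66.E6.reps_ok 2)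
      (by decide +kernel)
    rw [e]
    exact (hl.rep_spec InvE66.E6.reps_ok InvE66.E6.rk2_ok InvE66.E6.rk2_len (by norm_num)).2.2
  · have e := rank_aux (F := F) (W := [1, 3, 4, 5, 2, 3, 4, 0, 2, 1]) (M := E6.tab.reps.getD 2 [])
      (R := InvE66.E6.tab.reps.getD 1 []) (by decide +kernel) (by decide +kernel) (hl.rep_flat InvE66.E6.reps_ok 1)
      (by decide +kernel)
    rw [e]
    exact (hl.rep_spec InvE66.E6.reps_ok InvE66.E6.rk1_ok InvE66.E6.rk1_len (by norm_num)).2.2
  · have e := rank_aux (F := F) (W := [3, 4, 5, 2, 3, 0, 2, 1, 3, 4, 3, 2, 1]) (M := E6.tab.reps.getD 3 [])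
      (R := InvE66.E6.tab.reps.getD 3 []) (by decide +kernel) (by decide +kernel) (hl.rep_flat InvE66.E6.reps_ok 3)
      (by decide +kernel)
    rw [e]
    exact (hl.rep_spec InvE66.E6.reps_ok InvE66.E6.rk3_ok InvE66.E6.rk3_len (by norm_num)).2.2

end Cfsg.Agent.Lib.InvE66T.E6
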