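import Cfsg.Agent.Lib.InvE66T.Classes

/-!
Representatives of the stable sets of orthogonal roots of type E6, with the words moving between them.
-/

set_option autoImplicit false
set_option maxRecDepth 100000

namespace Cfsg.Agent.Lib.InvE66T.E6

open Cfsg.Lie Cfsg.Agent.Lib.Chev Cfsg.Agent.Lib.InvE66T

/-- The symmetry on the roots. -/
def rhoList : List ℕ := [0, 1, 2, 5, 16, 3, 6, 17, 8, 19, 22, 11, 26, 30, 33, 35, 4, 7, 18, 9, 20, 23, 10, 21, 24, 25, 12, 27, 31, 34, 13, 28, 32, 14, 29, 15, 56, 42, 57, 39, 43, 58, 37, 40, 44, 59, 46, 47, 50, 61, 48, 51, 62, 53, 64, 67, 36, 38, 41, 45, 60, 49, 52, 63, 54, 65, 68, 55, 66, 69, 70, 71]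

def rho (r : ℕ) : ℕ := rhoList.getD r 0

def orbWords : List (List ℕ) := [[1], [3], [2, 4], [0, 5]]

def row0 : List (ℕ × List ℕ × ℕ) :=
  [(0, [1, 2, 3, 0, 1, 2, 1, 0], 2),
   (1, [1, 2, 3, 0, 1, 2, 1], 2),
   (2, [1, 2, 3, 0, 1, 2], 2),
   (3, [3, 2, 1, 2, 0, 1, 2, 3], 1),
   (4, [3, 2, 1, 2, 0, 1, 2], 1),
   (5, [3, 2, 1, 2, 0, 1, 2, 3], 1),
   (6, [1, 2, 3, 0, 1], 2),
   (7, [3, 2, 1, 2, 0, 1], 1),
   (8, [1, 2, 3, 0], 2),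
   (9, [3, 2, 1, 2, 0], 1),
   (10, [3, 2, 1, 0], 1),
   (11, [1, 2, 3], 2),
   (12, [3, 2, 1, 2], 1),
   (13, [3, 2, 1], 1),
   (14, [3, 2], 1),
   (15, [3], 1),
   (16, [3, 2, 1, 2, 0, 1, 2], 1),
   (17, [3, 2, 1, 2, 0, 1], 1),
   (18, [1, 2, 0, 1], 2),
   (19, [3, 2, 1, 2, 0], 1),
   (20, [1, 2, 0], 2),
   (21, [2, 3, 2, 1, 0], 1),
   (22, [3, 2, 1, 0], 1),
   (23, [2, 3, 2, 1, 0], 1),
   (24, [1, 0], 2),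
   (25, [0, 1, 0], 2),
   (26, [3, 2, 1, 2], 1),
   (27, [1, 2], 2),
   (28, [2, 3, 2, 1], 1),
   (29, [2, 3, 2], 1),
   (30, [3, 2, 1], 1),
   (31, [2, 3, 2, 1], 1),
   (32, [1], 2),
   (33, [3, 2], 1),
   (34, [2, 3, 2], 1),
   (35, [3], 1),
   (36, [], 1),
   (37, [2, 3], 1),
   (38, [2], 1),
   (39, [], 2),
   (40, [2, 3, 1], 1),
   (41, [2, 1], 1),
   (42, [2, 3], 1),
   (43, [2, 3, 1], 1),
   (44, [2], 2),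
   (45, [2, 1, 2], 1),
   (46, [0, 1], 2),
   (47, [0], 2),
   (48, [2, 3, 1, 0], 1),
   (49, [2, 1, 0], 1),
   (50, [2, 3, 1, 0], 1),
   (51, [2, 0], 2),
   (52, [2, 1, 2, 0], 1),
   (53, [2, 0, 1], 2),
   (54, [2, 1, 2, 0, 1], 1),
   (55, [2, 1, 2, 0, 1, 2], 1),
   (56, [], 1),
   (57, [2], 1),
   (58, [2, 1], 1),
   (59, [2, 1, 2], 1),
   (60, [2, 3], 2),
   (61, [2, 1, 0], 1),
   (62, [2, 1, 2, 0], 1),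
   (63, [2, 3, 0], 2),
   (64, [2, 1, 2, 0, 1], 1),
   (65, [2, 3, 0, 1], 2),
   (66, [2, 1, 2, 0, 1, 2, 3], 1),
   (67, [2, 1, 2, 0, 1, 2], 1),
   (68, [2, 1, 2, 0, 1, 2, 3], 1),
   (69, [2, 3, 0, 1, 2], 2),
   (70, [2, 3, 0, 1, 2, 1], 2),
   (71, [2, 3, 0, 1, 2, 1, 0], 2)]

def row1 : List (ℕ × List ℕ × ℕ) :=
  [(0, [1, 2, 0, 1, 2, 3, 2, 1, 2, 0], 3),
   (1, [1, 2, 0, 1, 2, 3, 2, 1, 2], 3),
   (2, [1, 2, 0, 1, 2, 3, 2, 1, 2, 1], 3),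
   (24, [1, 0], 3),
   (25, [0, 1, 0], 3),
   (32, [1], 3),
   (39, [], 3),
   (46, [0, 1], 3),
   (47, [0], 3),
   (69, [2, 0, 1, 2, 3, 2, 1, 2, 1], 3),
   (70, [2, 0, 1, 2, 3, 2, 1, 2], 3),
   (71, [2, 0, 1, 2, 3, 2, 1, 2, 0], 3)]

def row2 : List (ℕ × List ℕ × ℕ) :=
  [(0, [1, 2, 3, 0, 1, 2, 1, 0], 4),
   (3, [3, 2, 1, 2, 0, 1, 2, 3, 1, 0], 3),
   (4, [3, 2, 1, 2, 0, 1, 2, 1, 0], 3),
   (5, [3, 2, 1, 2, 0, 1, 2, 3, 1, 0], 3),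
   (10, [3, 0, 1, 2, 1, 0], 3),
   (11, [1, 2, 3], 4),
   (12, [3, 2, 1, 2], 3),
   (15, [3], 3),
   (16, [3, 2, 1, 2, 0, 1, 2, 1, 0], 3),
   (21, [0, 1, 2, 3, 2, 1, 0], 3),
   (22, [3, 0, 1, 2, 1, 0], 3),
   (23, [0, 1, 2, 3, 2, 1, 0], 3),
   (26, [3, 2, 1, 2], 3),
   (27, [1, 2], 4),
   (35, [3], 3),
   (36, [], 3),
   (44, [], 4),
   (45, [2, 1, 2], 3),
   (48, [0, 1, 2, 3, 1, 0], 3),
   (49, [0, 1, 2, 1, 0], 3),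
   (50, [0, 1, 2, 3, 1, 0], 3),
   (55, [2, 1, 2, 0, 1, 2, 1, 0], 3),
   (56, [], 3),
   (59, [2, 1, 2], 3),
   (60, [3], 4),
   (61, [0, 1, 2, 1, 0], 3),
   (66, [2, 1, 2, 0, 1, 2, 3, 1, 0], 3),
   (67, [2, 1, 2, 0, 1, 2, 1, 0], 3),
   (68, [2, 1, 2, 0, 1, 2, 3, 1, 0], 3),
   (71, [3, 0, 1, 2, 1, 0], 4)]

def row3 : List (ℕ × List ℕ × ℕ) :=
  [(0, [1, 2, 0, 1, 2, 3, 2, 1, 2, 0], 5),
   (71, [], 5)]

def row4 : List (ℕ × List ℕ × ℕ) :=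
  [(0, [1, 2, 3, 0, 1, 2, 1, 0], 6),
   (3, [3, 2, 1, 2, 0, 1, 2, 3, 1, 0], 5),
   (5, [3, 2, 1, 2, 0, 1, 2, 3, 1, 0], 5),
   (11, [1, 2, 3], 6),
   (21, [0, 1, 2, 3, 2, 1, 0], 5),
   (23, [0, 1, 2, 3, 2, 1, 0], 5),
   (48, [0, 1, 2, 3, 1, 0], 5),
   (50, [0, 1, 2, 3, 1, 0], 5),
   (60, [], 6),
   (66, [2, 1, 2, 0, 1, 2, 3, 1, 0], 5),
   (68, [2, 1, 2, 0, 1, 2, 3, 1, 0], 5),
   (71, [0, 1, 2, 1, 0], 6)]

def row5 : List (ℕ × List ℕ × ℕ) :=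
  []

def row6 : List (ℕ × List ℕ × ℕ) :=
  [(0, [1, 2, 3, 0, 1, 2, 1, 0], 7),
   (71, [], 7)]

def row7 : List (ℕ × List ℕ × ℕ) :=
  []

def tab : TwTab where
  reps := [[], [36, 56], [39], [36, 39, 56], [39, 44], [36, 39, 56, 71], [39, 44, 60], [39, 44, 60, 71]]
  rows := [row0, row1, row2, row3, row4, row5, row6, row7]

theorem orbWords_ok : chkOW chevE6 Chev.E6.cert rho orbWords = true := by decide +kernel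

theorem sym_ok : chkSym chevE6 Chev.E6.cert rho = true := by decide +kernel

theorem treps_ok : chkTReps chevE6 Chev.E6.cert tab = true := by decide +kernel

theorem trows_ok : chkTRows chevE6 Chev.E6.cert rho orbWords tab = true := by decide +kernel

end Cfsg.Agent.Lib.InvE66T.E6
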