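import Cfsg.Agent.Lib.InvE66T.Step

/-!
The two kinds of orbits.
-/

set_option autoImplicit false

namespace Cfsg.Agent.Lib.InvE66T

open Cfsg.Lie Cfsg.Agent.Lib.Chev Cfsg.Agent.Lib.ChevCent Cfsg.Agent.Lib.InvE66
open scoped Matrix

variable {D : ChevalleyDatum} {C : Cert} {F : Type*} [Field F]

namespace Tw

variable {h : Laced D C} (T : Tw h F) {Ψ : Set ℕ} (hΨ : IsSub D C Ψ) (hst : T.Stable Ψ) {r : ℕ}
  (hr : Indec D C Ψ r)
include hΨ hst hr

local notation "X" => xg h.toRooted.toChecked
local notation "CF" => cf h.toRooted.toChecked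
local notation "R2" => rest2 D Ψ r (T.rho r)
local notation "WT" => wt D C r (T.rho r)
local notation "AA" => lay D C Ψ r (T.rho r)
local notation "PP" => perp2 D C Ψ r (T.rho r)

theorem comm_orbit [CharP F 2] (c : F) {p : GL D.Idx F} (hp : p ∈ rootGen D F PP) :
    Commute (T.oel r c) p := by
  have h1 : ∀ t : F, Commute (X r t) p := fun t =>
    h.commute_rootGen hr.1.2.2 (fun a ha => ⟨ha.1.2.2, ha.2.1.ge⟩) t hp
  have h2 : ∀ t : F, Commute (X (T.rho r) t) p := fun t =>
    h.commute_rootGen (T.rho_lt hr.1.2.2) (fun a ha => ⟨ha.1.2.2, ha.2.2.ge⟩) t hp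
  unfold oel
  split_ifs
  · exact h1 c
  · exact (h1 c).mul_left (h2 _)

theorem oel_sq [CharP F 2] (c : F) : T.oel r c * T.oel r c = 1 := by
  unfold oel
  split_ifs with e
  · exact Laced.xg_mul_self _ _ _
  · rw [← (T.pair_commute hr.1.2.2 e c (T.phi c)).mul_mul_mul_comm, Laced.xg_mul_self, Laced.xg_mul_self,
      mul_one]

theorem orbit_not_lay (k : ℤ) : r ∉ AA k ∧ T.rho r ∉ AA k :=
  ⟨fun hh => hh.1.2 (Or.inl rfl), fun hh => hh.1.2 (Or.inr rfl)⟩

theorem lay_add (k : ℤ) : ∀ b ∈ AA k, prs D C r b = -1 → sumR C r b ∈ AA k := fun b hb e => by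
  obtain ⟨m, hw, -⟩ := T.add_in hΨ hst hr hb.1 e
  exact ⟨m, hw ▸ hb.2⟩

theorem lay_add' (k : ℤ) : ∀ b ∈ AA k, prs D C (T.rho r) b = -1 → sumR C (T.rho r) b ∈ AA k := fun b hb e => by
  obtain ⟨m, hw, -⟩ := T.add_in' hΨ hst hr hb.1 e
  exact ⟨m, hw ▸ hb.2⟩

/-- The orbit of a fixed root. -/
theorem solver_one [CharP F 2] (hfix : T.rho r = r) {c : F} (hc : c ≠ 0) (hcf : T.phi c = c) :
    T.Solver Ψ r (X r c) (fun f η => if prs D C r η = 1 then c * f (subR D C η r) else 0) where
  fixed := by
    have := T.oel_fixed (F := F) hr.1.2.2 (t := c) fun _ => hcf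
    rwa [oel, if_pos hfix] at this
  sq := Laced.xg_mul_self _ _ _
  comm p hp := h.commute_rootGen hr.1.2.2 (fun a ha => ⟨ha.1.2.2, ha.2.1.ge⟩) c hp
  conj k x hx := by
    classical
    have key := fun η (hi : IrrIn D C (AA k) η) hs =>
      h.cf_conj (T.lay_cl hΨ hst hr k) hr.1.2 (T.orbit_not_lay hΨ hst hr k).1 (T.lay_add hΨ hst hr k) hi hs c hx
    constructor
    · have hn := h.norm_of_pos (F := F) (T.lay_cl hΨ hst hr k).1 hr.1.2 (T.lay_add hΨ hst hr k) c
      have := (Subgroup.mem_normalizer_iff.1 hn x).1 hx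
      rwa [Laced.xg_inv_two] at this
    intro η hη hw
    have hsub : prs D C r η = 1 → subR D C η r ∈ AA k ∧ IrrIn D C (AA k) (subR D C η r) := fun e => by
      obtain ⟨m, -, -, hwm, -⟩ := T.sub_in hΨ hst hr hη e
      exact ⟨⟨m, (hwm.trans hw).ge⟩, T.lay_irr hΨ hst hr m (hwm.trans hw)⟩
    have := (key η (T.lay_irr hΨ hst hr hη hw) fun e _ => (hsub e).2).2
    rw [Laced.xg_inv_two] at this
    rw [this]
    congr 1
    exact if_congr ⟨fun e => e.1, fun e => ⟨e, (hsub e).1⟩⟩ rfl rfl
  congr k f g hfg η hη hw := by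
    try dsimp only
    split_ifs with e
    · obtain ⟨m, -, -, hwm, -⟩ := T.sub_in hΨ hst hr hη e
      rw [hfg _ m (hwm.trans hw)]
    · rfl
  solve k f hf h0 := by
    refine ⟨fun η => if prs D C r η = -1 then f (sumR C r η) / c else 0, fun η hη hw => ?_, fun η hη hw hC => ?_⟩
    · have e : prs D C r (T.rho η) = prs D C r η := by
        rw [← T.prs_left hr.1.2.2 hη.1.2.2, hfix]
      try dsimp only
      rw [e]
      split_ifs with e1
      · obtain ⟨m, hwm, -⟩ := T.add_in hΨ hst hr hη e1
        rw [map_div₀, ← hf _ m (hwm.trans hw), hcf, ← T.rho_sum hr.1.2.2 hη.1.2.2 e1, hfix]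
      · rw [map_zero]
    · dsimp only
      rcases (T.prs_rest hΨ hst hr hη).1 with e | e | e
      · rw [if_neg (by omega), add_zero]
        obtain ⟨m, hwm, hp, -⟩ := T.add_in hΨ hst hr hη e
        have h2 := h0 _ m (hwm.trans hw) fun hm => by have := hm.2.1; omega
        try dsimp only at h2
        rw [if_pos hp, h.subR_add hr.1.2.2 hη.1.2.2 e] at h2
        exact (mul_eq_zero.1 h2).resolve_left hc
      · exact absurd ⟨hη.1, e, by rw [hfix]; exact e⟩ hC
      · obtain ⟨m, hm1, hm2, -⟩ := T.sub_in hΨ hst hr hη e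
        rw [if_pos e, if_pos hm1, hm2, mul_div_cancel₀ _ hc, CharTwo.add_self_eq_zero]

/-- The orbit of two roots. -/
theorem solver_two [CharP F 2] (hne : T.rho r ≠ r) {c : F} (hc : c ≠ 0) {al : F} (hal : al + T.phi al = 1) :
    T.Solver Ψ r (X r c * X (T.rho r) (T.phi c))
      (fun f η => (if prs D C (T.rho r) η = 1 then T.phi c * f (subR D C η (T.rho r)) else 0) +
        if prs D C r η = 1 then c * (f (subR D C η r) +
          if prs D C (T.rho r) η = 1 then T.phi c * f (subR D C (subR D C η r) (T.rho r)) else 0) else 0) where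
  fixed := by
    have := T.oel_fixed (F := F) hr.1.2.2 (t := c) fun e => absurd e hne
    rwa [oel, if_neg hne] at this
  sq := by
    have := T.oel_sq hΨ hst hr c
    rwa [oel, if_neg hne] at this
  comm p hp := by
    have := T.comm_orbit hΨ hst hr c hp
    rwa [oel, if_neg hne] at this
  conj k x hx := by
    classical
    set r' := T.rho r with hr'
    set d := T.phi c
    have hcl := T.lay_cl hΨ hst hr k
    have hr'p : r' ∈ posSet D := T.rho_pos hr.1.2
    set y := X r' d * x * X r' d with hy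
    have hyA : y ∈ rootGen D F (AA k) := by
      have hn := h.norm_of_pos (F := F) hcl.1 hr'p (T.lay_add' hΨ hst hr k) d
      have := (Subgroup.mem_normalizer_iff.1 hn x).1 hx
      rwa [Laced.xg_inv_two] at this
    have e0 : X r c * X r' d * x * (X r c * X r' d) = X r c * y * X r c := by
      rw [hy, (T.pair_commute hr.1.2.2 hne c d).eq]
      conv_lhs => arg 1; arg 1; rw [← (T.pair_commute hr.1.2.2 hne c d).eq]
      simp only [mul_assoc, hr']
    have hy' : ∀ ζ ∈ R2, WT ζ = k → CF (AA k) ζ y = CF (AA k) ζ x +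
        if prs D C r' ζ = 1 then d * CF (AA k) (subR D C ζ r') x else 0 := by
      intro ζ hζ hwζ
      have hsub : prs D C r' ζ = 1 → subR D C ζ r' ∈ AA k ∧ IrrIn D C (AA k) (subR D C ζ r') := fun e => by
        obtain ⟨m, -, -, hwm, -⟩ := T.sub_in' hΨ hst hr hζ e
        exact ⟨⟨m, (hwm.trans hwζ).ge⟩, T.lay_irr hΨ hst hr m (hwm.trans hwζ)⟩
      have := (h.cf_conj hcl hr'p (T.orbit_not_lay hΨ hst hr k).2 (T.lay_add' hΨ hst hr k)
        (T.lay_irr hΨ hst hr hζ hwζ) (fun e _ => (hsub e).2) d hx).2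
      rw [Laced.xg_inv_two] at this
      rw [hy, this]
      congr 1
      exact if_congr ⟨fun e => e.1, fun e => ⟨e, (hsub e).1⟩⟩ rfl rfl
    rw [e0]
    constructor
    · have hn := h.norm_of_pos (F := F) hcl.1 hr.1.2 (T.lay_add hΨ hst hr k) c
      have := (Subgroup.mem_normalizer_iff.1 hn y).1 hyA
      rwa [Laced.xg_inv_two] at this
    intro η hη hw
    have hsub : prs D C r η = 1 → subR D C η r ∈ AA k ∧ IrrIn D C (AA k) (subR D C η r) := fun e => by
      obtain ⟨m, -, -, hwm, -⟩ := T.sub_in hΨ hst hr hη e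
      exact ⟨⟨m, (hwm.trans hw).ge⟩, T.lay_irr hΨ hst hr m (hwm.trans hw)⟩
    have hz := (h.cf_conj hcl hr.1.2 (T.orbit_not_lay hΨ hst hr k).1 (T.lay_add hΨ hst hr k)
      (T.lay_irr hΨ hst hr hη hw) (fun e _ => (hsub e).2) c hyA).2
    rw [Laced.xg_inv_two] at hz
    rw [hz, hy' η hη hw, add_assoc]
    congr 2
    by_cases e : prs D C r η = 1
    · rw [if_pos ⟨e, (hsub e).1⟩, if_pos e]
      obtain ⟨m, -, -, hwm, hpm⟩ := T.sub_in hΨ hst hr hη e
      rw [hy' _ m (hwm.trans hw), hpm r' (T.rho_lt hr.1.2.2),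
        h.prs_comm (T.rho_lt hr.1.2.2) hr.1.2.2, (T.rho_orth hr.1.2.2).resolve_left hne, sub_zero]
    · rw [if_neg e, if_neg fun e' => e e'.1]
  congr k f g hfg η hη hw := by
    try dsimp only
    have e1 : prs D C (T.rho r) η = 1 → f (subR D C η (T.rho r)) = g (subR D C η (T.rho r)) := fun e => by
      obtain ⟨m, -, -, hwm, -⟩ := T.sub_in' hΨ hst hr hη e
      exact hfg _ m (hwm.trans hw)
    have e2 : prs D C r η = 1 → f (subR D C η r) = g (subR D C η r) ∧ (prs D C (T.rho r) η = 1 →
        f (subR D C (subR D C η r) (T.rho r)) = g (subR D C (subR D C η r) (T.rho r))) := fun e => by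
      obtain ⟨m, -, -, hwm, hpm⟩ := T.sub_in hΨ hst hr hη e
      refine ⟨hfg _ m (hwm.trans hw), fun e' => ?_⟩
      obtain ⟨m', -, -, hwm', -⟩ := T.sub_in' hΨ hst hr m (by
        rw [hpm _ (T.rho_lt hr.1.2.2), h.prs_comm (T.rho_lt hr.1.2.2) hr.1.2.2,
          (T.rho_orth hr.1.2.2).resolve_left hne, e', sub_zero])
      exact hfg _ m' (hwm'.trans (hwm.trans hw))
    split_ifs with a b
    · rw [e1 a, (e2 b).1, (e2 b).2 a]
    · rw [e1 a]
    · rw [(e2 ‹prs D C r η = 1›).1]
    · rfl
  solve k f hf h0 := by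
    set r' := T.rho r with hr'
    set d := T.phi c with hd
    have hd0 : d ≠ 0 := by simpa [hd] using hc
    have hrn := hr.1.2.2
    have hr'n : r' < D.nroots := T.rho_lt hrn
    have p0 : prs D C r r' = 0 := (T.rho_orth hrn).resolve_left hne
    have p0' : prs D C r' r = 0 := by rw [h.prs_comm hr'n hrn, p0]
    have hrr : T.rho r' = r := T.rho_rho hrn
    -- exchange of the two roots
    have swap : ∀ η ∈ R2, prs D C r (T.rho η) = prs D C r' η ∧ prs D C r' (T.rho η) = prs D C r η :=
      fun η hη => ⟨(T.prs_left hrn hη.1.2.2).symm, T.rho_prs hrn hη.1.2.2⟩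
    have mv : ∀ η ∈ R2, WT η = k → prs D C r η = -1 →
        sumR C r η ∈ R2 ∧ WT (sumR C r η) = k ∧ prs D C r (sumR C r η) = 1 ∧
          prs D C r' (sumR C r η) = prs D C r' η ∧ subR D C (sumR C r η) r = η ∧
          T.rho (sumR C r η) = sumR C r' (T.rho η) := by
      intro η hη hw e
      obtain ⟨m, hwm, hp, hpm⟩ := T.add_in hΨ hst hr hη e
      exact ⟨m, hwm.trans hw, hp, by rw [hpm r' hr'n, p0', zero_add], h.subR_add hrn hη.1.2.2 e,
        (T.rho_sum hrn hη.1.2.2 e).symm⟩
    have mv' : ∀ η ∈ R2, WT η = k → prs D C r' η = -1 →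
        sumR C r' η ∈ R2 ∧ WT (sumR C r' η) = k ∧ prs D C r (sumR C r' η) = prs D C r η ∧
          prs D C r' (sumR C r' η) = 1 ∧ subR D C (sumR C r' η) r' = η ∧
          T.rho (sumR C r' η) = sumR C r (T.rho η) := by
      intro η hη hw e
      obtain ⟨m, hwm, hpm⟩ := T.add_in' hΨ hst hr hη e
      refine ⟨m, hwm.trans hw, by rw [hpm r hrn, p0, zero_add], ?_, h.subR_add hr'n hη.1.2.2 e, ?_⟩
      · rw [hpm r' hr'n, h.prs_self hr'n, e]; ring
      · rw [← T.rho_sum hr'n hη.1.2.2 e, hrr]
    -- the relations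
    have L0 : ∀ η ∈ R2, WT η = k → prs D C r η = -1 → prs D C r' η = -1 ∨ prs D C r' η = 0 → f η = 0 := by
      intro η hη hw e e'
      obtain ⟨m, hwm, hp, hp', hs, -⟩ := mv η hη hw e
      have h2 := h0 _ m hwm fun hm => by have := hm.2.1; omega
      try dsimp only at h2
      rw [if_neg (by omega), if_pos hp, if_neg (by omega), hs, add_zero, zero_add] at h2
      exact (mul_eq_zero.1 h2).resolve_left hc
    have L0' : ∀ η ∈ R2, WT η = k → prs D C r' η = -1 → prs D C r η = 0 → f η = 0 := by
      intro η hη hw e e'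
      obtain ⟨m, hwm, hp, hp', hs, -⟩ := mv' η hη hw e
      have h2 := h0 _ m hwm fun hm => by have := hm.2.2; omega
      try dsimp only at h2
      rw [if_pos hp', if_neg (by omega), hs, add_zero] at h2
      exact (mul_eq_zero.1 h2).resolve_left hd0
    -- the relation on a square
    have sq : ∀ δ ∈ R2, WT δ = k → prs D C r δ = -1 → prs D C r' δ = -1 →
        c * f (sumR C r' δ) = d * f (sumR C r δ) := by
      intro δ hδ hw e e'
      obtain ⟨my, hwy, py, py', -, -⟩ := mv δ hδ hw e
      obtain ⟨mx, hwx, px, px', hsx, -⟩ := mv' δ hδ hw e'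
      obtain ⟨me, hwe, pe, pe', hse, -⟩ := mv _ mx hwx (by omega)
      have hse' : subR D C (sumR C r (sumR C r' δ)) r' = sumR C r δ := by
        obtain ⟨s1, -, -, s4⟩ := h.subR_spec hr'n me.1.2.2 (by omega : prs D C r' (sumR C r (sumR C r' δ)) = 1)
        refine h.eq_of_cd s1 my.1.2.2 ?_
        rw [s4 _ h.toRooted.toChecked.isAdd_cd,
          (h.sum_spec hrn mx.1.2.2 (by omega)).2.1 _ h.toRooted.toChecked.isAdd_cd,
          (h.sum_spec hr'n hδ.1.2.2 e').2.1 _ h.toRooted.toChecked.isAdd_cd,
          (h.sum_spec hrn hδ.1.2.2 e).2.1 _ h.toRooted.toChecked.isAdd_cd]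
        ring
      have h2 := h0 _ me hwe fun hm => by have := hm.2.1; omega
      try dsimp only at h2
      rw [if_pos (by omega), if_pos pe, if_pos (by omega), hse', hse, hsx,
        L0 δ hδ hw e (Or.inl e'), mul_zero, add_zero] at h2
      rw [CharTwo.add_eq_zero] at h2
      exact h2.symm
    refine ⟨fun η =>
      if prs D C r η = -1 then
        if prs D C r' η = 1 then al * (f (sumR C r η) + d * f (sumR C r (subR D C η r'))) / c
        else f (sumR C r η) / c
      else if prs D C r' η = -1 then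
        if prs D C r η = 1 then T.phi al * (f (sumR C r' η) + c * f (sumR C r' (subR D C η r))) / d
        else f (sumR C r' η) / d
      else 0, fun η hη hw => ?_, fun η hη hw hC => ?_⟩
    · -- the solution is fixed
      have hρ := T.rest2_rho hΨ hst hr hη
      have hwρ := (T.wt_rho hΨ hst hr hη).trans hw
      obtain ⟨s1, s2⟩ := swap η hη
      obtain ⟨ra, ra'⟩ := T.prs_rest hΨ hst hr hη
      rw [← hr'] at ra'
      try dsimp only
      rw [s1, s2]
      by_cases e : prs D C r η = -1
      · obtain ⟨m, hwm, -, -, -, hρm⟩ := mv η hη hw e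
        rcases ra' with e' | e' | e'
        · -- both pairings negative
          simp only [e, e', Int.reduceNeg, Int.reduceEq, if_true, if_false, reduceIte]
          obtain ⟨m', -, -, -, -, hρm'⟩ := mv' η hη hw e'
          rw [map_div₀, ← hf _ m hwm, hρm, ← hd, div_eq_div_iff hc hd0]
          have := sq (T.rho η) hρ hwρ (by omega) (by omega)
          linear_combination -this
        · simp only [e, e', Int.reduceNeg, Int.reduceEq, if_true, if_false, reduceIte]
          rw [map_div₀, ← hf _ m hwm, hρm]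
        · simp only [e, e', Int.reduceNeg, Int.reduceEq, if_true, if_false, reduceIte]
          obtain ⟨ms, -, -, hws, hps⟩ := T.sub_in' hΨ hst hr hη (hr' ▸ e')
          rw [← hr'] at ms hws hps
          have es : prs D C r (subR D C η r') = -1 := by rw [hps r hrn, e, p0, sub_zero]
          obtain ⟨mm, hwmm, -, -, -, hρmm⟩ := mv _ ms (hws.trans hw) es
          have hρs : T.rho (subR D C η r') = subR D C (T.rho η) r := by
            obtain ⟨a1, -, -, a4⟩ := h.subR_spec hr'n hη.1.2.2 e'
            have hneg : prs D C η (ng D r') = -1 := by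
              rw [h.prs_ng hr'n, h.prs_comm hη.1.2.2 hr'n, e']
            have := T.rho_sum hη.1.2.2 (Checked.ng_lt hr'n) hneg
            rw [T.rho_ng hr'n, hrr] at this
            exact this.symm
          rw [map_div₀, map_mul, map_add, map_mul, ← hf _ m hwm, ← hf _ mm hwmm, hρm, hρmm, hρs, ← hd,
            T.phi_phi]
      · simp only [if_neg e]
        by_cases e' : prs D C r' η = -1
        · obtain ⟨m, hwm, -, -, -, hρm⟩ := mv' η hη hw e'
          simp only [if_pos e']
          by_cases e1 : prs D C r η = 1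
          · simp only [if_pos e1]
            obtain ⟨ms, -, -, hws, hps⟩ := T.sub_in hΨ hst hr hη e1
            have es : prs D C r' (subR D C η r) = -1 := by rw [hps r' hr'n, e', p0', sub_zero]
            obtain ⟨mm, hwmm, -, -, -, hρmm⟩ := mv' _ ms (hws.trans hw) es
            have hρs : T.rho (subR D C η r) = subR D C (T.rho η) r' := by
              have hneg : prs D C η (ng D r) = -1 := by
                rw [h.prs_ng hrn, h.prs_comm hη.1.2.2 hrn, e1]
              have := T.rho_sum hη.1.2.2 (Checked.ng_lt hrn) hneg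
              rw [T.rho_ng hrn] at this
              exact this.symm
            rw [map_div₀, map_mul, map_add, map_mul, ← hf _ m hwm, ← hf _ mm hwmm, hρm, hρmm, hρs, hd,
              T.phi_phi, T.phi_phi]
          · simp only [if_neg e1]
            rw [map_div₀, ← hf _ m hwm, hρm, hd, T.phi_phi]
        · simp only [if_neg e']
          rw [map_zero]
    · -- the solution solves the equation
      obtain ⟨ra, ra'⟩ := T.prs_rest hΨ hst hr hη
      rw [← hr'] at ra'
      try dsimp only
      rcases ra with e | e | e <;> rcases ra' with e' | e' | e'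
      · rw [if_neg (by omega), if_neg (by omega), add_zero, add_zero]
        exact L0 η hη hw e (Or.inl e')
      · rw [if_neg (by omega), if_neg (by omega), add_zero, add_zero]
        exact L0 η hη hw e (Or.inr e')
      · -- pairings -1, 1
        obtain ⟨ms, ps', hsum, hws, hps⟩ := T.sub_in' hΨ hst hr hη (hr' ▸ e')
        rw [← hr'] at ms ps' hsum hws hps
        have es : prs D C r (subR D C η r') = -1 := by rw [hps r hrn, e, p0, sub_zero]
        rw [if_pos e', if_neg (show ¬ prs D C r η = 1 by omega), if_pos es, if_neg (by omega), add_zero]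
        have := sq _ ms (hws.trans hw) es ps'
        rw [hsum] at this
        rw [← mul_div_assoc, ← this, mul_div_cancel_left₀ _ hc, CharTwo.add_self_eq_zero]
      · rw [if_neg (by omega), if_neg (by omega), add_zero, add_zero]
        exact L0' η hη hw e' e
      · exact absurd ⟨hη.1, e, e'⟩ hC
      · -- pairings 0, 1
        obtain ⟨ms, ps', hsum, hws, hps⟩ := T.sub_in' hΨ hst hr hη (hr' ▸ e')
        rw [← hr'] at ms ps' hsum hws hps
        have es : prs D C r (subR D C η r') = 0 := by rw [hps r hrn, e, p0, sub_zero]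
        rw [if_pos e', if_neg (show ¬ prs D C r η = 1 by omega), if_neg (by omega), if_pos ps', if_neg (by omega),
          hsum, add_zero, mul_div_cancel₀ _ hd0, CharTwo.add_self_eq_zero]
      · -- pairings 1, -1
        obtain ⟨ms, ps, hsum, hws, hps⟩ := T.sub_in hΨ hst hr hη e
        have es' : prs D C r' (subR D C η r) = -1 := by rw [hps r' hr'n, e', p0', sub_zero]
        rw [if_neg (show ¬ prs D C r' η = 1 by omega), if_pos e, if_pos ps, if_neg (by omega),
          if_neg (show ¬ prs D C r' η = 1 by omega), hsum, add_zero, zero_add, mul_div_cancel₀ _ hc,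
          CharTwo.add_self_eq_zero]
      · -- pairings 1, 0
        obtain ⟨ms, ps, hsum, hws, hps⟩ := T.sub_in hΨ hst hr hη e
        have es' : prs D C r' (subR D C η r) = 0 := by rw [hps r' hr'n, e', p0', sub_zero]
        rw [if_neg (show ¬ prs D C r' η = 1 by omega), if_pos e, if_pos ps, if_neg (by omega),
          if_neg (show ¬ prs D C r' η = 1 by omega), hsum, add_zero, zero_add, mul_div_cancel₀ _ hc,
          CharTwo.add_self_eq_zero]
      · -- both pairings one
        obtain ⟨mx, px, hxsum, hwx, hpx⟩ := T.sub_in hΨ hst hr hη e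
        obtain ⟨my, py, hysum, hwy, hpy⟩ := T.sub_in' hΨ hst hr hη (hr' ▸ e')
        rw [← hr'] at my py hysum hwy hpy
        have px' : prs D C r' (subR D C η r) = 1 := by rw [hpx r' hr'n, e', p0', sub_zero]
        have py' : prs D C r (subR D C η r') = 1 := by rw [hpy r hrn, e, p0, sub_zero]
        obtain ⟨md, pd', hdsum, hwd, hpd⟩ := T.sub_in' hΨ hst hr mx (hr' ▸ px')
        rw [← hr'] at md pd' hdsum hwd hpd
        have pd : prs D C r (subR D C (subR D C η r) r') = -1 := by rw [hpd r hrn, px, p0, sub_zero]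
        set δ := subR D C (subR D C η r) r' with hδ
        have hyr : subR D C (subR D C η r') r = δ := by
          obtain ⟨a1, -, -, a4⟩ := h.subR_spec hrn my.1.2.2 py'
          obtain ⟨b1, -, -, b4⟩ := h.subR_spec hr'n mx.1.2.2 px'
          refine h.eq_of_cd a1 b1 ?_
          rw [a4 _ h.toRooted.toChecked.isAdd_cd, b4 _ h.toRooted.toChecked.isAdd_cd,
            (h.subR_spec hrn hη.1.2.2 e).2.2.2 _ h.toRooted.toChecked.isAdd_cd,
            (h.subR_spec hr'n hη.1.2.2 e').2.2.2 _ h.toRooted.toChecked.isAdd_cd]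
          ring
        have hrel := sq δ md (hwd.trans (hwx.trans hw)) pd pd'
        rw [hdsum] at hrel
        rw [if_pos e', if_pos e, if_pos e', if_pos px, if_pos px', hxsum, if_pos pd, if_neg (show ¬ prs D C r' δ = 1 by omega),
          if_neg (show ¬ prs D C r (subR D C η r') = -1 by omega), if_pos py, if_pos py', hyr, hysum, hdsum]
        field_simp
        linear_combination (T.phi al) * hrel + (f η + d * f (sumR C r δ)) * hal +
          CharTwo.add_self_eq_zero (f η + d * f (sumR C r δ))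

end Tw

end Cfsg.Agent.Lib.InvE66T
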