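import Cfsg.Agent.Lib.InvE66T.Descend
import Cfsg.Agent.Lib.InvE66.Classes

/-!
Every fixed involution of the positive part is conjugate by a fixed element to a product over orbits of
pairwise orthogonal roots.
-/

set_option autoImplicit false

namespace Cfsg.Agent.Lib.InvE66T

open Cfsg.Lie Cfsg.Agent.Lib.Chev Cfsg.Agent.Lib.ChevCent Cfsg.Agent.Lib.InvE66
open scoped Matrix

variable {D : ChevalleyDatum} {C : Cert} {F : Type*} [Field F]

/-- The orbit as a list. -/
def orbL (rho : ℕ → ℕ) (r : ℕ) : List ℕ := if rho r = r then [r] else [r, rho r]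

/-- The roots of a list of orbits. -/
def orbsL (rho : ℕ → ℕ) (os : List ℕ) : List ℕ := os.flatMap (orbL rho)

/-- The torus element of a root. -/
noncomputable def scl (hh : Checked D C) (D' : ChevalleyDatum := D) (r : ℕ) (s : F) : GL D.Idx F :=
  ((D'.hWord r s).map fun x => xg hh x.1 x.2).prod

end Cfsg.Agent.Lib.InvE66T

namespace Cfsg.Agent.Lib.InvE66.Laced

open Cfsg.Lie Cfsg.Agent.Lib.Chev Cfsg.Agent.Lib.ChevCent Cfsg.Agent.Lib.InvE66T
open scoped Matrix

variable {D : ChevalleyDatum} {C : Cert} {F : Type*} [Field F] (h : Laced D C)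
include h

local notation "X" => xg h.toRooted.toChecked

theorem scl_mem {r : ℕ} (hr : r < D.nroots) (s : F) :
    scl h.toRooted.toChecked D r s ∈ rootGen D F {a | a = r ∨ a = ng D r} := by
  refine list_prod_mem fun y hy => ?_
  obtain ⟨x, hx, rfl⟩ := List.mem_map.1 hy
  refine h.xg_mem ?_ _
  simp only [ChevalleyDatum.hWord, ChevalleyDatum.nWord, h.toRooted.toChecked.neg_eq hr, List.mem_append,
    List.mem_cons, List.not_mem_nil, or_false] at hx
  rcases hx with (rfl | rfl | rfl) | (rfl | rfl | rfl) <;> simp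

theorem scl_conj {r : ℕ} (hr : r < D.nroots) (s : Fˣ) (t : F) :
    scl h.toRooted.toChecked D r (s : F) * X r t * (scl h.toRooted.toChecked D r (s : F))⁻¹ =
      X r ((s : F) ^ 2 * t) := by
  have hc := h.toRooted.toChecked
  set g : GL D.Idx F := scl h.toRooted.toChecked D r (s : F) with hg
  have hco : ((g : GL D.Idx F) : Matrix D.Idx D.Idx F) = D.hMat F r (s : F) := by
    rw [hg, scl, ChevalleyDatum.hMat]
    induction D.hWord r (s : F) with
    | nil => simp [ChevalleyDatum.wordMat]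
    | cons a l ih =>
      simp only [ChevalleyDatum.wordMat, List.map_cons, List.prod_cons, Units.val_mul] at ih ⊢
      rw [ih, coe_xg]
  rw [mul_inv_eq_iff_eq_mul]
  refine Units.ext ?_
  rw [Units.val_mul, Units.val_mul, coe_xg, coe_xg, hco, h.toRooted.hMat_eq hr, powDiag_eq_charDiag]
  have hχ : ∀ a < D.nroots, chiOf D C (fun j => s ^ D.cartan j r) a = s ^ D.pairing r a := by
    intro a ha
    rw [h.pairing_eq_prs hr a ha, chiOf, prs]
    have key : ∀ n : ℕ, ∏ j ∈ Finset.range n, (s ^ D.cartan j r) ^ coef D C j a =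
        s ^ ∑ j ∈ Finset.range n, D.cartan j r * coef D C j a := by
      intro n
      induction n with
      | zero => simp
      | succ n ih => rw [Finset.prod_range_succ, Finset.sum_range_succ, ih, zpow_add, zpow_mul]
    exact key _
  rw [hc.charDiag_mul_x_of_eq (χ := fun a => s ^ D.pairing r a) (fun j => s ^ D.cartan j r) hr t hχ,
    h.toRooted.pairing_self hr]
  congr 2

end Cfsg.Agent.Lib.InvE66.Laced

namespace Cfsg.Agent.Lib.InvE66T

open Cfsg.Lie Cfsg.Agent.Lib.Chev Cfsg.Agent.Lib.ChevCent Cfsg.Agent.Lib.InvE66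
open scoped Matrix

variable {D : ChevalleyDatum} {C : Cert} {F : Type*} [Field F]

namespace Tw

variable {h : Laced D C} (T : Tw h F)

local notation "X" => xg h.toRooted.toChecked
local notation "PX" => prodX h.toRooted.toChecked F
local notation "CF" => cf h.toRooted.toChecked
local notation "H" => scl h.toRooted.toChecked D

include T in
theorem scl_group {r : ℕ} (hr : r < D.nroots) (s : F) : (H r s : GL D.Idx F) ∈ D.group F :=
  rootGen_le_group (S := {a | a = r ∨ a = ng D r})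
    (by rintro a (rfl | rfl) <;> [exact hr; exact Checked.ng_lt hr]) (h.scl_mem hr s)

include T in
theorem sg_scl {r : ℕ} (hr : r < D.nroots) (s : F) : T.sg (H r s) = H (T.rho r) (T.phi s) := by
  have hn := Checked.ng_lt (D := D) hr
  have key : ∀ L : List (ℕ × F), (∀ x ∈ L, x.1 < D.nroots) →
      T.sg (L.map fun x => X x.1 x.2).prod = (L.map fun x => X (T.rho x.1) (T.phi x.2)).prod := by
    intro L
    induction L with
    | nil => intro _; simp [T.sg_one]
    | cons a L ih =>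
      intro hL
      have hG : (L.map fun x => X x.1 x.2).prod ∈ D.group F := list_prod_mem fun y hy => by
        obtain ⟨x, hx, rfl⟩ := List.mem_map.1 hy
        exact T.xg_group (hL x (List.mem_cons_of_mem _ hx)) _
      rw [List.map_cons, List.prod_cons, List.map_cons, List.prod_cons,
        T.sg_mul _ (T.xg_group (hL a List.mem_cons_self) _) _ hG, T.sg_x _ (hL a List.mem_cons_self),
        ih fun x hx => hL x (List.mem_cons_of_mem _ hx)]
  unfold scl
  rw [key]
  · simp only [ChevalleyDatum.hWord, ChevalleyDatum.nWord, h.toRooted.toChecked.neg_eq hr,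
      h.toRooted.toChecked.neg_eq (T.rho_lt hr), List.map_append, List.map_cons, List.map_nil, T.rho_ng hr,
      map_neg, map_inv₀, map_one]
  · intro x hx
    simp only [ChevalleyDatum.hWord, ChevalleyDatum.nWord, h.toRooted.toChecked.neg_eq hr, List.mem_append,
      List.mem_cons, List.not_mem_nil, or_false] at hx
    rcases hx with (rfl | rfl | rfl) | (rfl | rfl | rfl) <;> assumption

theorem prodX_orbL [CharP F 2] (r : ℕ) : PX (orbL T.rho r) = T.oel r 1 := by
  unfold orbL oel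
  split_ifs <;> simp [prodX, word, map_one]

theorem stable_orth {L : List ℕ} (hL : ∀ β ∈ L, β < D.nroots) (hLs : ∀ β ∈ L, T.rho β ∈ L) :
    T.Stable (orthSet D C L) := fun a ha =>
  ⟨T.rho_lt ha.1, fun β hβ => by rw [← T.prs_left (hL β hβ) ha.1]; exact ha.2 _ (hLs β hβ)⟩

theorem orth_cons (L : List ℕ) (r : ℕ) :
    perp2 D C (orthSet D C L) r (T.rho r) = posOf D (orthSet D C (r :: T.rho r :: L)) := by
  ext a
  simp only [perp2, posOf, orthSet, Set.mem_setOf_eq, List.forall_mem_cons]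
  exact ⟨fun ⟨⟨⟨a1, a2⟩, a3⟩, a4, a5⟩ => ⟨⟨a1, a4, a5, a2⟩, a3⟩,
    fun ⟨⟨a1, a4, a5, a2⟩, a3⟩ => ⟨⟨⟨a1, a2⟩, a3⟩, a4, a5⟩⟩

/-- Splitting off the orbit. -/
theorem reduce [CharP F 2] {al : F} (hal : al + T.phi al = 1) {Ψ : Set ℕ} (hΨ : IsSub D C Ψ)
    (hst : T.Stable Ψ) {r : ℕ} (hr : Indec D C Ψ r) {u : GL D.Idx F} (hu : u ∈ rootGen D F (posOf D Ψ))
    (huf : u ∈ T.fx) (hsq : u * u = 1) (hnot : u ∉ rootGen D F (restSet D Ψ r)) :
    ∃ c : F, c ≠ 0 ∧ (T.rho r = r → T.phi c = c) ∧ ∃ g ∈ rootGen D F Ψ, g ∈ T.fx ∧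
      ∃ p ∈ rootGen D F (perp2 D C Ψ r (T.rho r)), p ∈ T.fx ∧
        g * u * g⁻¹ = T.oel r c * p ∧ p * p = 1 := by
  classical
  have hr' := T.indec_rho hΨ hst hr
  have hP : IsCl D C (posOf D Ψ) :=
    ⟨fun _ ha => ha.2, fun a ha b hb e => ⟨hΨ.sum_mem a ha.1 b hb.1 e, h.sum_pos ha.2 hb.2 e⟩⟩
  have hPs : T.Stable (posOf D Ψ) := fun a ha => ⟨hst a ha.1, T.rho_pos ha.2⟩
  have hi : IrrIn D C (posOf D Ψ) r := ⟨hr.1, hr.2⟩
  have hi' : IrrIn D C (posOf D Ψ) (T.rho r) := ⟨hr'.1, hr'.2⟩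
  set c := CF (posOf D Ψ) r u with hcdef
  have hc : c ≠ 0 := by
    intro e
    have h2 := h.cf_spec hP hi hu
    rw [← hcdef, e, xg_zero, inv_one, one_mul] at h2
    exact hnot h2
  have hc' : CF (posOf D Ψ) (T.rho r) u = T.phi c := by
    conv_lhs => rw [← huf.2]
    exact h.cf_sg T hP hPs hi hi' hu
  have hcf : T.rho r = r → T.phi c = c := fun e => by rw [← hc', e]
  set R := T.oel r c with hRdef
  have hRm : R ∈ rootGen D F (posOf D Ψ) := T.oel_mem hr.1 hr'.1 c
  have hRf : R ∈ T.fx := T.oel_fixed hr.1.2.2 hcf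
  set w := R⁻¹ * u with hwdef
  have hwP : w ∈ rootGen D F (posOf D Ψ) := mul_mem (inv_mem hRm) hu
  have hwR : w ∈ rootGen D F (rest2 D Ψ r (T.rho r)) := by
    have := h.mem_of_cf_zero hP hwP {r, T.rho r} (by
      intro η hη
      simp only [Finset.mem_insert, Finset.mem_singleton] at hη
      have hne : ∀ e : T.rho r ≠ r, CF (posOf D Ψ) r R = c ∧ CF (posOf D Ψ) (T.rho r) R = T.phi c := fun e => by
        rw [hRdef, oel, if_neg e, h.cf_mul hP hi (h.xg_mem hr.1 _) (h.xg_mem hr'.1 _),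
          h.cf_mul hP hi' (h.xg_mem hr.1 _) (h.xg_mem hr'.1 _), h.cf_xg hP hi hr.1, h.cf_xg hP hi hr'.1,
          h.cf_xg hP hi' hr.1, h.cf_xg hP hi' hr'.1]
        simp [e, Ne.symm e]
      have heq : ∀ e : T.rho r = r, CF (posOf D Ψ) r R = c := fun e => by
        rw [hRdef, oel, if_pos e, h.cf_xg hP hi hr.1, if_pos rfl]
      rcases hη with rfl | rfl
      · refine ⟨hi, ?_⟩
        rw [hwdef, h.cf_mul hP hi (inv_mem hRm) hu, h.cf_inv hP hi hRm, ← hcdef]
        by_cases e : T.rho η = η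
        · rw [heq e, neg_add_cancel]
        · rw [(hne e).1, neg_add_cancel]
      · refine ⟨hi', ?_⟩
        rw [hwdef, h.cf_mul hP hi' (inv_mem hRm) hu, h.cf_inv hP hi' hRm, hc']
        by_cases e : T.rho r = r
        · rw [e, heq e, hcf e, neg_add_cancel]
        · rw [(hne e).2, neg_add_cancel])
    refine rootGen_mono ?_ this
    rintro a ⟨ha, hne⟩
    exact ⟨ha, by simpa using hne⟩
  have eu : u = R * 1 * w := by rw [hwdef]; group
  have hwf : w ∈ T.fx := mul_mem (inv_mem hRf) huf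
  obtain ⟨L, hS⟩ : ∃ L, T.Solver Ψ r R L := by
    rw [hRdef]
    by_cases e : T.rho r = r
    · exact ⟨_, by rw [oel, if_pos e]; exact T.solver_one hΨ hst hr e hc (hcf e)⟩
    · exact ⟨_, by rw [oel, if_neg e]; exact T.solver_two hΨ hst hr e hc hal⟩
  set bound := ((∑ a ∈ Finset.range D.nroots, (wt D C r (T.rho r) a).natAbs : ℕ)) with hb
  have hlayer : w ∈ rootGen D F (lay D C Ψ r (T.rho r) 1) :=
    rootGen_mono (S := rest2 D Ψ r (T.rho r)) (T := lay D C Ψ r (Tw.rho T r) 1)
      (fun a ha => ⟨ha, T.wt_pos hΨ hst hr ha⟩) hwR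
  obtain ⟨g, hg, hgf, p, hp, hpf, e⟩ := T.sweep hΨ hst hr hS bound 1 (fun η hη => by
      have := Finset.single_le_sum (f := fun a => (wt D C r (T.rho r) a).natAbs) (fun a _ => Nat.zero_le _)
        (Finset.mem_range.2 hη.1.2.2)
      omega) 1 (one_mem _) (one_mem _) w hlayer hwf (by rw [← eu]; exact hsq)
  refine ⟨c, hc, hcf, g, hg, hgf, p, hp, hpf, by rw [eu]; exact e, ?_⟩
  have h2 : R * p * (R * p) = 1 := by
    rw [← e, ← eu]
    calc _ = g * (u * u) * g⁻¹ := by group
      _ = 1 := by rw [hsq]; group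
  rw [← (hS.comm p hp).mul_mul_mul_comm, hS.sq, one_mul] at h2
  exact h2

/-- The classification up to orthogonal orbits. -/
theorem exists_orth [Fintype F] [CharP F 2] {al : F} (hal : al + T.phi al = 1) : ∀ (n : ℕ) (L : List ℕ),
    (∀ β ∈ L, β < D.nroots) → (∀ β ∈ L, T.rho β ∈ L) →
    ((Finset.range D.nroots).filter fun a => decide (∀ β ∈ L, prs D C β a = 0) = true).card ≤ n →
    ∀ u : GL D.Idx F, u ∈ rootGen D F (posOf D (orthSet D C L)) → u ∈ T.fx → u * u = 1 →
    ∃ g ∈ rootGen D F (orthSet D C L), g ∈ T.fx ∧ ∃ os : List ℕ,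
      (∀ r ∈ orbsL T.rho os, r ∈ posOf D (orthSet D C L)) ∧
      os.Pairwise (fun a b => ∀ x ∈ orbL T.rho a, ∀ y ∈ orbL T.rho b, prs D C x y = 0) ∧
      g * u * g⁻¹ = PX (orbsL T.rho os) := by
  intro n
  induction n using Nat.strong_induction_on with
  | _ n ih =>
  intro L hL hLs hcard u hu huf hsq
  have hc := h.toRooted.toChecked
  set Ψ := orthSet D C L with hΨdef
  have hΨ : IsSub D C Ψ := h.isSub_orthSet L
  have hst : T.Stable Ψ := T.stable_orth hL hLs
  by_cases h1 : u = 1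
  · exact ⟨1, one_mem _, one_mem _, [], by simp [orbsL], List.Pairwise.nil, by simp [h1, orbsL, prodX, word]⟩
  have hnotall : u ∉ rootGen D F {γ | γ ∈ posOf D Ψ ∧
      ((∑ a ∈ Finset.range D.nroots, (Cfsg.Agent.Lib.Chev.ht D C a).toNat : ℕ) : ℤ) + 1 ≤
        Cfsg.Agent.Lib.Chev.ht D C γ} := by
    intro hmem
    refine h1 ?_
    have : ({γ | γ ∈ posOf D Ψ ∧
        ((∑ a ∈ Finset.range D.nroots, (Cfsg.Agent.Lib.Chev.ht D C a).toNat : ℕ) : ℤ) + 1 ≤
          Cfsg.Agent.Lib.Chev.ht D C γ} : Set ℕ) = ∅ := by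
      refine Set.eq_empty_iff_forall_notMem.2 fun γ hγ => ?_
      have h2 := Finset.single_le_sum (f := fun a => (Cfsg.Agent.Lib.Chev.ht D C a).toNat)
        (fun a _ => Nat.zero_le _) (Finset.mem_range.2 hγ.1.2.2)
      have h3 := hγ.2
      skip
      omega
    rw [this] at hmem
    simpa [rootGen] using hmem
  obtain ⟨g₀, hg₀, hg₀f, r, hr, hu₀, hu₀'⟩ := T.descend hΨ hst _ u hu huf hnotall
  set u₀ := g₀ * u * g₀⁻¹ with hu₀def
  have hu₀f : u₀ ∈ T.fx := mul_mem (mul_mem hg₀f huf) (inv_mem hg₀f)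
  have hsq₀ : u₀ * u₀ = 1 := by
    calc _ = g₀ * (u * u) * g₀⁻¹ := by rw [hu₀def]; group
      _ = 1 := by rw [hsq]; group
  obtain ⟨c, hc0, hcf, g₁, hg₁, hg₁f, p, hp, hpf, e₁, hpp⟩ := T.reduce hal hΨ hst hr hu₀ hu₀f hsq₀ hu₀'
  rw [T.orth_cons] at hp
  set r' := T.rho r with hr'def
  have hrn := hr.1.2.2
  have hr'n : r' < D.nroots := T.rho_lt hrn
  set L' := r :: r' :: L with hL'
  have hLn : ∀ β ∈ L', β < D.nroots := by
    simp only [hL', List.forall_mem_cons]
    exact ⟨hrn, hr'n, hL⟩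
  have hLns : ∀ β ∈ L', T.rho β ∈ L' := by
    simp only [hL', List.forall_mem_cons]
    exact ⟨by simp [r'], by simp [r', T.rho_rho hrn], fun β hβ => by simp [hLs β hβ]⟩
  have hlt : ((Finset.range D.nroots).filter
      fun a => decide (∀ β ∈ L', prs D C β a = 0) = true).card < n := by
    refine lt_of_lt_of_le (Finset.card_lt_card (Finset.ssubset_iff_of_subset ?_ |>.2 ⟨r, ?_, ?_⟩)) hcard
    · intro a ha
      simp only [hL', Finset.mem_filter, decide_eq_true_eq, List.forall_mem_cons] at ha ⊢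
      exact ⟨ha.1, ha.2.2.2⟩
    · simpa [Finset.mem_filter, hrn] using hr.1.1.2
    · simp [hL', Finset.mem_filter, hrn, h.prs_self hrn]
  obtain ⟨g₂, hg₂, hg₂f, os, hos, hosp, e₂⟩ := ih _ hlt L' hLn hLns le_rfl p hp hpf hpp
  have hsub : orthSet D C L' ⊆ Ψ := fun a ha =>
    ⟨ha.1, fun β hβ => ha.2 β (List.mem_cons_of_mem _ (List.mem_cons_of_mem _ hβ))⟩
  have hperp : ∀ a ∈ orthSet D C L', prs D C r a = 0 ∧ prs D C r' a = 0 := fun a ha =>
    ⟨ha.2 r List.mem_cons_self, ha.2 r' (List.mem_cons_of_mem _ List.mem_cons_self)⟩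
  have hcg₂ : Commute (T.oel r c) g₂ := by
    have h1 : ∀ t : F, Commute (X r t) g₂ := fun t =>
      h.commute_rootGen hrn (fun a ha => ⟨ha.1, (hperp a ha).1.ge⟩) t hg₂
    have h2 : ∀ t : F, Commute (X r' t) g₂ := fun t =>
      h.commute_rootGen hr'n (fun a ha => ⟨ha.1, (hperp a ha).2.ge⟩) t hg₂
    unfold oel
    split_ifs
    · exact h1 c
    · exact (h1 c).mul_left (h2 _)
  obtain ⟨s, hs⟩ := FiniteField.isSquare_of_char_two (CharP.ringChar_of_prime_eq_zero Nat.prime_two
    (by exact_mod_cast CharTwo.two_eq_zero)) (c⁻¹)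
  have hs0 : s ≠ 0 := by rintro rfl; simp [hc0] at hs
  have hsc : s ^ 2 * c = 1 := by rw [pow_two, ← hs, inv_mul_cancel₀ hc0]
  -- the torus element
  obtain ⟨t, htP, htf, htconj, htM⟩ : ∃ t : GL D.Idx F, t ∈ rootGen D F Ψ ∧ t ∈ T.fx ∧
      t * T.oel r c * t⁻¹ = T.oel r 1 ∧ Commute t (PX (orbsL T.rho os)) := by
    have hΨr : ∀ a, a ∈ Ψ → {b | b = a ∨ b = ng D a} ⊆ Ψ := by
      rintro a ha b (rfl | rfl)
      · exact ha
      · exact hΨ.ng_mem _ ha
    have hcomm : ∀ a, a = r ∨ a = r' → ∀ x : F, Commute (H a x) (PX (orbsL T.rho os)) := by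
      intro a ha x
      refine Commute.list_prod_right _ _ fun y hy => ?_
      obtain ⟨b, hb, rfl⟩ := List.mem_map.1 hy
      have hb' := (hos b hb).1
      have han : a < D.nroots := by rcases ha with rfl | rfl <;> assumption
      have h0 : prs D C b a = 0 := by
        rw [h.prs_comm hb'.1 han]
        rcases ha with rfl | rfl
        · exact (hperp b hb').1
        · exact (hperp b hb').2
      refine (h.commute_rootGen hb'.1 (fun d hd => ?_) 1 (h.scl_mem han x)).symm
      rcases hd with rfl | rfl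
      · exact ⟨han, h0.ge⟩
      · exact ⟨Checked.ng_lt han, by rw [h.prs_ng han, h0]; norm_num⟩
    by_cases e : r' = r
    · have hsf : T.phi s = s := by
        have h1 : (T.phi s) ^ 2 * c = 1 := by
          rw [← hcf e, ← map_pow, ← map_mul, hsc, map_one]
        have h2 : (T.phi s) ^ 2 = s ^ 2 := mul_right_cancel₀ hc0 (h1.trans hsc.symm)
        rw [← sub_eq_zero]
        have h3 : (T.phi s - s) ^ 2 = 0 := by
          rw [CharTwo.sub_eq_add, CharTwo.add_sq, h2, CharTwo.add_self_eq_zero]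
        exact pow_eq_zero_iff two_ne_zero |>.1 h3
      refine ⟨H r s, rootGen_mono (hΨr r hr.1.1) (h.scl_mem hrn s), ⟨T.scl_group hrn s, ?_⟩, ?_,
        hcomm r (Or.inl rfl) s⟩
      · rw [T.sg_scl hrn, ← hr'def, e, hsf]
      · have := h.scl_conj (F := F) hrn (Units.mk0 s hs0) c
        rw [Units.val_mk0, hsc] at this
        simp only [oel, ← hr'def, if_pos e]
        exact this
    · have p0 : prs D C r r' = 0 := (T.rho_orth hrn).resolve_left e
      have p0' : prs D C r' r = 0 := by rw [h.prs_comm hr'n hrn, p0]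
      have hx : ∀ (a b : ℕ), a < D.nroots → b < D.nroots → prs D C a b = 0 → ∀ y x : F,
          Commute (H a y) (X b x) := fun a b ha hb h0 y x => by
        have h0' : prs D C b a = 0 := by rw [h.prs_comm hb ha, h0]
        refine (h.commute_rootGen hb (fun d hd => ?_) x (h.scl_mem ha y)).symm
        rcases hd with rfl | rfl
        · exact ⟨ha, h0'.ge⟩
        · exact ⟨Checked.ng_lt ha, by rw [h.prs_ng ha, h0']; norm_num⟩
      have hHH : Commute (H r s) (H r' (T.phi s)) := by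
        refine Commute.list_prod_right _ _ fun y hy => ?_
        obtain ⟨x, hxm, rfl⟩ := List.mem_map.1 hy
        simp only [ChevalleyDatum.hWord, ChevalleyDatum.nWord, h.toRooted.toChecked.neg_eq hr'n,
          List.mem_append, List.mem_cons, List.not_mem_nil, or_false] at hxm
        have hng : prs D C r (ng D r') = 0 := by rw [h.prs_ng hr'n, p0, neg_zero]
        rcases hxm with (rfl | rfl | rfl) | (rfl | rfl | rfl) <;>
          first
            | exact hx r _ hrn hr'n p0 _ _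
            | exact hx r _ hrn (Checked.ng_lt hr'n) hng _ _
      refine ⟨H r s * H r' (T.phi s), mul_mem (rootGen_mono (hΨr r hr.1.1) (h.scl_mem hrn s))
        (rootGen_mono (hΨr r' (hst r hr.1.1)) (h.scl_mem hr'n _)),
        ⟨mul_mem (T.scl_group hrn _) (T.scl_group hr'n _), ?_⟩, ?_,
        (hcomm r (Or.inl rfl) s).mul_left (hcomm r' (Or.inr rfl) _)⟩
      · rw [T.sg_mul _ (T.scl_group hrn _) _ (T.scl_group hr'n _), T.sg_scl hrn, T.sg_scl hr'n, hr'def,
          T.rho_rho hrn, T.phi_phi]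
        exact hHH.eq.symm
      · have h1 := h.scl_conj (F := F) hrn (Units.mk0 s hs0) c
        have hs0' : T.phi s ≠ 0 := by simpa using hs0
        have h2 := h.scl_conj (F := F) hr'n (Units.mk0 (T.phi s) hs0') (T.phi c)
        rw [Units.val_mk0] at h1 h2
        rw [hsc] at h1
        rw [← map_pow, ← map_mul, hsc, map_one] at h2
        simp only [oel, ← hr'def, if_neg e, map_one]
        have e3 := (hx r r' hrn hr'n p0 s 1).eq
        have e4 := (hx r' r hr'n hrn p0' (T.phi s) c).eq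
        calc _ = H r s * (H r' (T.phi s) * X r c * (H r' (T.phi s))⁻¹) *
              (H r' (T.phi s) * X r' (T.phi c) * (H r' (T.phi s))⁻¹) * (H r s)⁻¹ := by group
          _ = H r s * X r c * (X r' 1 * (H r s)⁻¹) := by
              rw [h2, e4, mul_inv_cancel_right]; group
          _ = H r s * X r c * (H r s)⁻¹ * (H r s * X r' 1 * (H r s)⁻¹) := by group
          _ = _ := by rw [h1, e3, mul_inv_cancel_right]
  refine ⟨t * g₂ * g₁ * g₀, mul_mem (mul_mem (mul_mem htP (rootGen_mono hsub hg₂)) hg₁) hg₀,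
    mul_mem (mul_mem (mul_mem htf hg₂f) hg₁f) hg₀f, r :: os, ?_, ?_, ?_⟩
  · intro a ha
    rcases List.mem_append.1 (show a ∈ orbL T.rho r ++ orbsL T.rho os from ha) with ha | ha
    · unfold orbL at ha
      split_ifs at ha <;> simp only [List.mem_cons, List.not_mem_nil, or_false] at ha
      · subst ha; exact hr.1
      · rcases ha with rfl | rfl
        · exact hr.1
        · exact (T.indec_rho hΨ hst hr).1
    · exact ⟨hsub (hos a ha).1, (hos a ha).2⟩
  · refine List.Pairwise.cons (fun b hb x hx y hy => ?_) hosp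
    have hy' := (hos y (List.mem_flatMap.2 ⟨b, hb, hy⟩)).1
    unfold orbL at hx
    split_ifs at hx <;> simp only [List.mem_cons, List.not_mem_nil, or_false] at hx
    · subst hx; exact (hperp y hy').1
    · rcases hx with rfl | rfl
      · exact (hperp y hy').1
      · exact (hperp y hy').2
  · calc t * g₂ * g₁ * g₀ * u * (t * g₂ * g₁ * g₀)⁻¹ = t * (g₂ * (g₁ * u₀ * g₁⁻¹) * g₂⁻¹) * t⁻¹ := by
          rw [hu₀def]; group
      _ = t * (T.oel r c * (g₂ * p * g₂⁻¹)) * t⁻¹ := by
          rw [e₁, ← mul_assoc g₂ (T.oel r c) p, ← hcg₂.eq]; simp only [mul_assoc]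
      _ = t * T.oel r c * t⁻¹ * (t * PX (orbsL T.rho os) * t⁻¹) := by rw [e₂]; group
      _ = _ := by
          rw [htconj, htM.eq, mul_inv_cancel_right, ← T.prodX_orbL,
            show orbsL T.rho (r :: os) = orbL T.rho r ++ orbsL T.rho os from List.flatMap_cons,
            h.prodX_append]

end Tw

end Cfsg.Agent.Lib.InvE66T
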