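import Cfsg.Agent.Lib.InvE66T.Coef

/-!
A fixed involution with a nonzero coefficient at an indecomposable orbit is conjugate by a fixed element to the
orbit part times a fixed involution in the roots orthogonal to the orbit.
-/

set_option autoImplicit false

namespace Cfsg.Agent.Lib.InvE66T

open Cfsg.Lie Cfsg.Agent.Lib.Chev Cfsg.Agent.Lib.ChevCent Cfsg.Agent.Lib.InvE66
open scoped Matrix

/-- The positive roots of the set outside the orbit. -/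
def rest2 (D : ChevalleyDatum) (Ψ : Set ℕ) (r r' : ℕ) : Set ℕ := posOf D Ψ \ {r, r'}

/-- The positive roots of the set orthogonal to the orbit. -/
def perp2 (D : ChevalleyDatum) (C : Cert) (Ψ : Set ℕ) (r r' : ℕ) : Set ℕ :=
  {γ | γ ∈ posOf D Ψ ∧ prs D C r γ = 0 ∧ prs D C r' γ = 0}

/-- The grading of an orbit. -/
def wt (D : ChevalleyDatum) (C : Cert) (r r' γ : ℕ) : ℤ :=
  2 * Cfsg.Agent.Lib.Chev.ht D C γ -
    Cfsg.Agent.Lib.Chev.ht D C r * (prs D C r γ + if r' = r then 0 else prs D C r' γ)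

variable {D : ChevalleyDatum} {C : Cert} {F : Type*} [Field F]

/-- The roots outside the orbit of weight at least `k`. -/
def lay (D : ChevalleyDatum) (C : Cert) (Ψ : Set ℕ) (r r' : ℕ) (k : ℤ) : Set ℕ :=
  {γ | γ ∈ rest2 D Ψ r r' ∧ k ≤ wt D C r r' γ}

namespace Tw

variable {h : Laced D C} (T : Tw h F) {Ψ : Set ℕ} (hΨ : IsSub D C Ψ) (hst : T.Stable Ψ) {r : ℕ}
  (hr : Indec D C Ψ r)
include hΨ hst hr

local notation "X" => xg h.toRooted.toChecked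
local notation "CF" => cf h.toRooted.toChecked
local notation "R2" => rest2 D Ψ r (T.rho r)
local notation "WT" => wt D C r (T.rho r)
local notation "AA" => lay D C Ψ r (T.rho r)
local notation "PP" => perp2 D C Ψ r (T.rho r)

theorem indec_rho : Indec D C Ψ (T.rho r) := by
  refine ⟨⟨hst r hr.1.1, T.rho_pos hr.1.2⟩, fun a ha b hb e es => ?_⟩
  have e' : prs D C (T.rho a) (T.rho b) = -1 := by rw [T.rho_prs ha.2.2 hb.2.2, e]
  refine hr.2 (T.rho a) ⟨hst a ha.1, T.rho_pos ha.2⟩ (T.rho b) ⟨hst b hb.1, T.rho_pos hb.2⟩ e' ?_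
  rw [T.rho_sum ha.2.2 hb.2.2 e, es, T.rho_rho hr.1.2.2]

theorem rest2_left {γ : ℕ} (hγ : γ ∈ R2) : γ ∈ restSet D Ψ r := ⟨hγ.1, fun e => hγ.2 (Or.inl e)⟩

theorem rest2_right {γ : ℕ} (hγ : γ ∈ R2) : γ ∈ restSet D Ψ (T.rho r) := ⟨hγ.1, fun e => hγ.2 (Or.inr e)⟩

theorem mem_rest2 {γ : ℕ} (hγ : γ ∈ posOf D Ψ) (h1 : γ ≠ r) (h2 : γ ≠ T.rho r) : γ ∈ R2 :=
  ⟨hγ, by rintro (e | e) <;> [exact h1 e; exact h2 e]⟩

theorem rest2_rho {γ : ℕ} (hγ : γ ∈ R2) : T.rho γ ∈ R2 := by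
  refine T.mem_rest2 hΨ hst hr ⟨hst γ hγ.1.1, T.rho_pos hγ.1.2⟩ (fun e => hγ.2 (Or.inr ?_))
    (fun e => hγ.2 (Or.inl ?_))
  · show γ = T.rho r
    rw [← e, T.rho_rho hγ.1.2.2]
  · exact T.rho_inj hγ.1.2.2 hr.1.2.2 e

theorem prs_rest {γ : ℕ} (hγ : γ ∈ R2) :
    (prs D C r γ = -1 ∨ prs D C r γ = 0 ∨ prs D C r γ = 1) ∧
    (prs D C (T.rho r) γ = -1 ∨ prs D C (T.rho r) γ = 0 ∨ prs D C (T.rho r) γ = 1) := by
  have key : ∀ a ∈ posOf D Ψ, γ ∈ restSet D Ψ a →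
      prs D C a γ = -1 ∨ prs D C a γ = 0 ∨ prs D C a γ = 1 := by
    intro a ha hγa
    rcases h.prs_range ha.2.2 hγ.1.2.2 with e | e | e
    · exact absurd e hγa.2
    · exact absurd e (Checked.ne_ng_of_pos ha.2 hγ.1.2 h.toRooted.toChecked.two_mul_half)
    · exact e
  exact ⟨key r hr.1 (T.rest2_left hΨ hst hr hγ),
    key _ (T.indec_rho hΨ hst hr).1 (T.rest2_right hΨ hst hr hγ)⟩

theorem prs_orbit : prs D C r (T.rho r) = if T.rho r = r then 2 else 0 := by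
  split_ifs with e
  · rw [e, h.prs_self hr.1.2.2]
  · exact (T.rho_orth hr.1.2.2).resolve_left e

theorem wt_orbit : WT r = 0 := by
  have hp := T.prs_orbit hΨ hst hr
  unfold wt
  rw [h.prs_self hr.1.2.2, h.prs_comm (T.rho_lt hr.1.2.2) hr.1.2.2, hp]
  split_ifs <;> ring

omit hΨ hst hr in
include T in
theorem isAdd_wt (r r' : ℕ) : IsAdd D C (wt D C r r') := by
  refine ⟨fun a ha => ?_, fun a ha s k u M hk => ?_⟩
  · simp only [wt, h.toRooted.toChecked.isAdd_ht.map_ng a ha, (h.isAdd_prs r).map_ng a ha,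
      (h.isAdd_prs r').map_ng a ha]
    split_ifs <;> ring
  · simp only [wt, h.toRooted.toChecked.isAdd_ht.map_chain a ha s k u M hk,
      (h.isAdd_prs r).map_chain a ha s k u M hk, (h.isAdd_prs r').map_chain a ha s k u M hk]
    split_ifs <;> ring

theorem wt_rho {γ : ℕ} (hγ : γ ∈ R2) : WT (T.rho γ) = WT γ := by
  unfold wt
  rw [T.rho_ht hγ.1.2.2, ← T.prs_left hr.1.2.2 hγ.1.2.2,
    T.rho_prs hr.1.2.2 hγ.1.2.2]
  split_ifs with e
  · rw [e]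
  · ring

theorem wt_rho_orbit : WT (T.rho r) = 0 := by
  by_cases e : T.rho r = r
  · conv_lhs => arg 5; rw [e]
    exact T.wt_orbit hΨ hst hr
  · unfold wt
    rw [if_neg e, T.rho_ht hr.1.2.2, h.prs_self (T.rho_lt hr.1.2.2), (T.rho_orth hr.1.2.2).resolve_left e]
    ring

theorem sub_in {γ : ℕ} (hγ : γ ∈ R2) (e : prs D C r γ = 1) :
    subR D C γ r ∈ R2 ∧ prs D C r (subR D C γ r) = -1 ∧ sumR C r (subR D C γ r) = γ ∧
      WT (subR D C γ r) = WT γ ∧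
      ∀ a < D.nroots, prs D C a (subR D C γ r) = prs D C a γ - prs D C a r := by
  obtain ⟨h1, h2, h3, h4⟩ := h.subR_spec hr.1.2.2 hγ.1.2.2 e
  obtain ⟨m, -⟩ := h.sub_rest hΨ hr (T.rest2_left hΨ hst hr hγ) e
  refine ⟨T.mem_rest2 hΨ hst hr m.1 m.2 (fun e' => ?_), h2, h3, ?_, fun a _ => h4 _ (h.isAdd_prs a)⟩
  · rw [e', T.prs_orbit hΨ hst hr] at h2
    split_ifs at h2 <;> omega
  · rw [h4 _ (T.isAdd_wt r (T.rho r)), T.wt_orbit hΨ hst hr, sub_zero]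

theorem sub_in' {γ : ℕ} (hγ : γ ∈ R2) (e : prs D C (T.rho r) γ = 1) :
    subR D C γ (T.rho r) ∈ R2 ∧ prs D C (T.rho r) (subR D C γ (T.rho r)) = -1 ∧
      sumR C (T.rho r) (subR D C γ (T.rho r)) = γ ∧ WT (subR D C γ (T.rho r)) = WT γ ∧
      ∀ a < D.nroots, prs D C a (subR D C γ (T.rho r)) = prs D C a γ - prs D C a (T.rho r) := by
  have hr' := T.indec_rho hΨ hst hr
  obtain ⟨h1, h2, h3, h4⟩ := h.subR_spec hr'.1.2.2 hγ.1.2.2 e
  obtain ⟨m, -⟩ := h.sub_rest hΨ hr' (T.rest2_right hΨ hst hr hγ) e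
  refine ⟨T.mem_rest2 hΨ hst hr m.1 (fun e' => ?_) m.2, h2, h3, ?_, fun a _ => h4 _ (h.isAdd_prs a)⟩
  · rw [e', h.prs_comm (T.rho_lt hr.1.2.2) hr.1.2.2, T.prs_orbit hΨ hst hr] at h2
    split_ifs at h2 <;> omega
  · rw [h4 _ (T.isAdd_wt r (T.rho r)), T.wt_rho_orbit hΨ hst hr, sub_zero]

theorem add_in {γ : ℕ} (hγ : γ ∈ R2) (e : prs D C r γ = -1) :
    sumR C r γ ∈ R2 ∧ WT (sumR C r γ) = WT γ ∧ prs D C r (sumR C r γ) = 1 ∧
      ∀ a < D.nroots, prs D C a (sumR C r γ) = prs D C a r + prs D C a γ := by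
  obtain ⟨m, p, -⟩ := h.rest_add hΨ hr (T.rest2_left hΨ hst hr hγ) e
  have hφ := (h.sum_spec hr.1.2.2 hγ.1.2.2 e).2.1
  refine ⟨T.mem_rest2 hΨ hst hr m.1 m.2 (fun e' => ?_), ?_, p, fun a _ => hφ _ (h.isAdd_prs a)⟩
  · rw [e', T.prs_orbit hΨ hst hr] at p
    split_ifs at p <;> omega
  · rw [hφ _ (T.isAdd_wt r (T.rho r)), T.wt_orbit hΨ hst hr, zero_add]

theorem add_in' {γ : ℕ} (hγ : γ ∈ R2) (e : prs D C (T.rho r) γ = -1) :
    sumR C (T.rho r) γ ∈ R2 ∧ WT (sumR C (T.rho r) γ) = WT γ ∧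
      ∀ a < D.nroots, prs D C a (sumR C (T.rho r) γ) = prs D C a (T.rho r) + prs D C a γ := by
  have hr' := T.indec_rho hΨ hst hr
  obtain ⟨m, p, -⟩ := h.rest_add hΨ hr' (T.rest2_right hΨ hst hr hγ) e
  have hφ := (h.sum_spec hr'.1.2.2 hγ.1.2.2 e).2.1
  refine ⟨T.mem_rest2 hΨ hst hr m.1 (fun e' => ?_) m.2, ?_, fun a _ => hφ _ (h.isAdd_prs a)⟩
  · rw [e', h.prs_comm (T.rho_lt hr.1.2.2) hr.1.2.2, T.prs_orbit hΨ hst hr] at p
    split_ifs at p <;> omega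
  · rw [hφ _ (T.isAdd_wt r (T.rho r)), T.wt_rho_orbit hΨ hst hr, zero_add]

theorem wt_pos {γ : ℕ} (hγ : γ ∈ R2) : 0 < WT γ := by
  have hhr := h.toRooted.toChecked.ht_pos hr.1.2.2 hr.1.2.1
  have low : ∀ a ∈ R2, prs D C r a + (if T.rho r = r then 0 else prs D C (T.rho r) a) ≤ 0 → 0 < WT a := by
    intro a ha hle
    have h1 := h.toRooted.toChecked.ht_pos ha.1.2.2 ha.1.2.1
    unfold wt
    nlinarith
  have one : ∀ a ∈ R2, prs D C r a = 1 → 0 < WT a := by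
    intro a ha e
    obtain ⟨m, p, -, hw, -⟩ := T.sub_in hΨ hst hr ha e
    rw [← hw]
    refine low _ m ?_
    have := (T.prs_rest hΨ hst hr m).2
    split_ifs <;> omega
  by_cases e : prs D C r γ = 1
  · exact one γ hγ e
  by_cases e' : prs D C (T.rho r) γ = 1
  · rw [← T.wt_rho hΨ hst hr hγ]
    exact one _ (T.rest2_rho hΨ hst hr hγ) (by rw [← T.prs_left hr.1.2.2 hγ.1.2.2, e'])
  refine low γ hγ ?_
  have := T.prs_rest hΨ hst hr hγ
  split_ifs <;> omega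

theorem sum_rest {a b : ℕ} (ha : a ∈ R2) (hb : b ∈ R2) (e : prs D C a b = -1) :
    sumR C a b ∈ R2 ∧ WT a < WT (sumR C a b) ∧ WT b < WT (sumR C a b) := by
  obtain ⟨m, -⟩ := h.rest_sum hΨ hr (T.rest2_left hΨ hst hr ha) (T.rest2_left hΨ hst hr hb) e
  have h2 := (h.sum_spec ha.1.2.2 hb.1.2.2 e).2.1 _ (T.isAdd_wt r (T.rho r))
  have h3 := T.wt_pos hΨ hst hr ha
  have h4 := T.wt_pos hΨ hst hr hb
  exact ⟨T.mem_rest2 hΨ hst hr m.1 m.2 ((T.indec_rho hΨ hst hr).2 a ha.1 b hb.1 e), by omega, by omega⟩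

theorem lay_cl (k : ℤ) : IsCl D C (AA k) :=
  ⟨fun _ ha => ha.1.1.2, fun a ha b hb e => ⟨(T.sum_rest hΨ hst hr ha.1 hb.1 e).1, by
    have := (T.sum_rest hΨ hst hr ha.1 hb.1 e).2.1
    have := ha.2
    omega⟩⟩

theorem lay_stable (k : ℤ) : T.Stable (AA k) := fun a ha =>
  ⟨T.rest2_rho hΨ hst hr ha.1, by rw [T.wt_rho hΨ hst hr ha.1]; exact ha.2⟩

theorem lay_irr {k : ℤ} {η : ℕ} (hη : η ∈ R2) (e : WT η = k) : IrrIn D C (AA k) η :=
  ⟨⟨hη, e.ge⟩, fun a ha b hb e' es => by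
    have h1 := (T.sum_rest hΨ hst hr ha.1 hb.1 e').2.1
    rw [es, e] at h1
    have := ha.2
    omega⟩

theorem perp_rest : PP ⊆ R2 := fun γ hγ => by
  refine T.mem_rest2 hΨ hst hr hγ.1 (fun e => ?_) (fun e => ?_)
  · have := hγ.2.1
    rw [e, h.prs_self hr.1.2.2] at this
    omega
  · have := hγ.2.2
    rw [e, h.prs_self (T.rho_lt hr.1.2.2)] at this
    omega

theorem perp_stable : T.Stable PP := fun γ hγ =>
  ⟨⟨hst γ hγ.1.1, T.rho_pos hγ.1.2⟩, by rw [← T.prs_left hr.1.2.2 hγ.1.2.2]; exact hγ.2.2,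
    by rw [T.rho_prs hr.1.2.2 hγ.1.2.2]; exact hγ.2.1⟩

theorem perp_cl : IsCl D C PP :=
  ⟨fun _ ha => ha.1.2, fun a ha b hb e => ⟨⟨hΨ.sum_mem a ha.1.1 b hb.1.1 e, h.sum_pos ha.1.2 hb.1.2 e⟩,
    by rw [h.prs_sum ha.1.2.2 hb.1.2.2 e, ha.2.1, hb.2.1, add_zero],
    by rw [h.prs_sum ha.1.2.2 hb.1.2.2 e, ha.2.2, hb.2.2, add_zero]⟩⟩

/-- Conjugation by the orthogonal part does not move the coefficients of a layer. -/
theorem conj_perp [CharP F 2] {k : ℤ} {p : GL D.Idx F} (hp : p ∈ rootGen D F PP) :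
    ∀ x ∈ rootGen D F (AA k), p * x * p⁻¹ ∈ rootGen D F (AA k) ∧ ∀ η ∈ R2, WT η = k →
      CF (AA k) η (p * x * p⁻¹) = CF (AA k) η x := by
  have hcl := T.lay_cl hΨ hst hr k
  have hN : rootGen D F PP ≤ Subgroup.normalizer (rootGen D F (AA k) : Set (GL D.Idx F)) :=
    Laced.rootGen_le_of_gen h.toRooted.toChecked fun a ha t => h.norm_of_pos hcl.1 ha.1.2 (fun b hb e' => by
      obtain ⟨m, -, m2⟩ := T.sum_rest hΨ hst hr (T.perp_rest hΨ hst hr ha) hb.1 e'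
      exact ⟨m, by have := hb.2; omega⟩) t
  induction hp using Subgroup.closure_induction with
  | mem g hg =>
    obtain ⟨a, t, ha, e⟩ := hg
    rw [show g = X a t from Units.ext (by rw [e, coe_xg])]
    have haR := T.perp_rest hΨ hst hr ha
    intro x hx
    by_cases haA : a ∈ AA k
    · refine ⟨mul_mem (mul_mem (h.xg_mem haA t) hx) (inv_mem (h.xg_mem haA t)), fun η hη hw => ?_⟩
      have hi := T.lay_irr hΨ hst hr hη hw
      have hxm := h.xg_mem (F := F) haA t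
      rw [h.cf_mul hcl hi (mul_mem hxm hx) (inv_mem hxm), h.cf_mul hcl hi hxm hx, h.cf_inv hcl hi hxm]
      ring
    · have hadd : ∀ b ∈ AA k, prs D C a b = -1 → sumR C a b ∈ AA k := fun b hb e' => by
        obtain ⟨m, -, m2⟩ := T.sum_rest hΨ hst hr haR hb.1 e'
        exact ⟨m, by have := hb.2; omega⟩
      constructor
      · have := h.norm_of_pos (F := F) hcl.1 ha.1.2 hadd t
        exact (Subgroup.mem_normalizer_iff.1 this x).1 hx
      intro η hη hw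
      have hi := T.lay_irr hΨ hst hr hη hw
      have hno : prs D C a η = 1 → subR D C η a ∉ AA k := fun e' hm => by
        obtain ⟨s1, s2, s3, -⟩ := h.subR_spec ha.1.2.2 hη.1.2.2 e'
        have h5 := (T.sum_rest hΨ hst hr haR hm.1 s2).2.2
        rw [s3, hw] at h5
        have := hm.2
        omega
      rw [(h.cf_conj hcl ha.1.2 haA hadd hi (fun e' hm => absurd hm (hno e')) t hx).2, if_neg, add_zero]
      exact fun hh => hno hh.1 hh.2
  | one => intro x hx; exact ⟨by simpa using hx, fun η _ _ => by simp⟩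
  | mul a b _ _ iha ihb =>
    intro x hx
    obtain ⟨b1, b2⟩ := ihb x hx
    obtain ⟨a1, a2⟩ := iha _ b1
    rw [show a * b * x * (a * b)⁻¹ = a * (b * x * b⁻¹) * a⁻¹ by group]
    exact ⟨a1, fun η hη hw => by rw [a2 η hη hw, b2 η hη hw]⟩
  | inv a ha iha =>
    intro x hx
    have hx' : a⁻¹ * x * a⁻¹⁻¹ ∈ rootGen D F (AA k) :=
      (Subgroup.mem_normalizer_iff.1 (inv_mem (hN ha)) x).1 hx
    refine ⟨hx', fun η hη hw => ?_⟩
    have := (iha _ hx').2 η hη hw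
    rw [show a * (a⁻¹ * x * a⁻¹⁻¹) * a⁻¹ = x by group] at this
    exact this.symm

end Tw

end Cfsg.Agent.Lib.InvE66T
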