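import Cfsg.Agent.Lib.InvE66T.Reduce

/-!
Clearing the layers of an orbit from below.
-/

set_option autoImplicit false

namespace Cfsg.Agent.Lib.InvE66T

open Cfsg.Lie Cfsg.Agent.Lib.Chev Cfsg.Agent.Lib.ChevCent Cfsg.Agent.Lib.InvE66
open scoped Matrix

variable {D : ChevalleyDatum} {C : Cert} {F : Type*} [Field F]

namespace Tw

variable {h : Laced D C} (T : Tw h F) {Ψ : Set ℕ} (hΨ : IsSub D C Ψ) (hst : T.Stable Ψ) {r : ℕ}
  (hr : Indec D C Ψ r)

local notation "X" => xg h.toRooted.toChecked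
local notation "CF" => cf h.toRooted.toChecked
local notation "R2" => rest2 D Ψ r (T.rho r)
local notation "WT" => wt D C r (T.rho r)
local notation "AA" => lay D C Ψ r (T.rho r)
local notation "PP" => perp2 D C Ψ r (T.rho r)

variable (Ψ r) in
/-- What the linear step needs: `L f` is the change of the coordinates under the orbit part. -/
structure Solver (R : GL D.Idx F) (L : (ℕ → F) → ℕ → F) : Prop where
  fixed : R ∈ T.fx
  sq : R * R = 1
  comm : ∀ p ∈ rootGen D F PP, Commute R p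
  conj : ∀ k : ℤ, ∀ x ∈ rootGen D F (AA k), R * x * R ∈ rootGen D F (AA k) ∧ ∀ η ∈ R2, WT η = k →
    CF (AA k) η (R * x * R) = CF (AA k) η x + L (fun ζ => CF (AA k) ζ x) η
  congr : ∀ k : ℤ, ∀ f g : ℕ → F, (∀ η ∈ R2, WT η = k → f η = g η) → ∀ η ∈ R2, WT η = k → L f η = L g η
  solve : ∀ k : ℤ, ∀ f : ℕ → F, (∀ η ∈ R2, WT η = k → f (T.rho η) = T.phi (f η)) →
    (∀ η ∈ R2, WT η = k → η ∉ PP → L f η = 0) →
    ∃ z : ℕ → F, (∀ η ∈ R2, WT η = k → z (T.rho η) = T.phi (z η)) ∧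
      ∀ η ∈ R2, WT η = k → η ∉ PP → f η + L z η = 0

include hΨ hst hr

theorem exists_layer_elt [CharP F 2] {k : ℤ} {S : Set ℕ} (hS : T.Stable S) (zf : ℕ → F)
    (hfix : ∀ η ∈ R2, WT η = k → zf (T.rho η) = T.phi (zf η))
    (hsupp : ∀ η ∈ R2, WT η = k → zf η ≠ 0 → η ∈ S) :
    ∃ z ∈ rootGen D F (S ∩ AA k), z ∈ T.fx ∧ ∀ η ∈ R2, WT η = k → CF (AA k) η z = zf η := by
  classical
  have hcl := T.lay_cl hΨ hst hr k
  have key : ∀ E : Finset ℕ, (∀ γ ∈ E, γ ∈ R2 ∧ WT γ = k ∧ zf γ ≠ 0 ∧ γ ≤ T.rho γ) →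
      ∃ z ∈ rootGen D F (S ∩ AA k), z ∈ T.fx ∧ ∀ η ∈ R2, WT η = k →
        CF (AA k) η z = if η ∈ E ∨ T.rho η ∈ E then zf η else 0 := by
    intro E
    induction E using Finset.induction with
    | empty => exact fun _ => ⟨1, one_mem _, one_mem _, fun η hη hw => by
        rw [h.cf_one hcl (T.lay_irr hΨ hst hr hη hw)]; simp⟩
    | @insert γ E hγE ih =>
      intro hE
      obtain ⟨z, hz, hzf, hzc⟩ := ih fun b hb => hE b (Finset.mem_insert_of_mem hb)
      obtain ⟨hγ, hγw, hγ0, hγle⟩ := hE γ (Finset.mem_insert_self _ _)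
      have hγA : γ ∈ S ∩ AA k := ⟨hsupp γ hγ hγw hγ0, hγ, hγw.ge⟩
      have hγA' : T.rho γ ∈ S ∩ AA k := ⟨hS γ hγA.1, T.lay_stable hΨ hst hr k γ hγA.2⟩
      refine ⟨T.oel γ (zf γ) * z, mul_mem (T.oel_mem hγA hγA' _) hz,
        mul_mem (T.oel_fixed hγ.1.2.2 fun e => ?_) hzf, fun η hη hw => ?_⟩
      · have := hfix γ hγ hγw
        rw [e] at this
        exact this.symm
      have hi := T.lay_irr hΨ hst hr hη hw
      have hzA : z ∈ rootGen D F (AA k) := rootGen_mono Set.inter_subset_right hz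
      rw [h.cf_mul hcl hi (T.oel_mem hγA.2 hγA'.2 _) hzA, hzc η hη hw]
      have hco : CF (AA k) η (T.oel γ (zf γ)) = if η = γ ∨ T.rho η = γ then zf η else 0 := by
        unfold Tw.oel
        by_cases e : T.rho γ = γ
        · rw [if_pos e, h.cf_xg hcl hi hγA.2]
          by_cases e1 : η = γ
          · subst e1; simp
          · rw [if_neg e1, if_neg]
            rintro (e2 | e2)
            · exact e1 e2
            · exact e1 (T.rho_inj hη.1.2.2 hγ.1.2.2 (e2.trans e.symm))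
        · rw [if_neg e, h.cf_mul hcl hi (h.xg_mem hγA.2 _) (h.xg_mem hγA'.2 _), h.cf_xg hcl hi hγA.2,
            h.cf_xg hcl hi hγA'.2]
          by_cases e1 : η = γ
          · subst e1
            rw [if_pos rfl, if_neg (Ne.symm e), if_pos (Or.inl rfl), add_zero]
          · by_cases e2 : η = T.rho γ
            · subst e2
              rw [if_neg e1, if_pos rfl, if_pos (Or.inr (T.rho_rho hγ.1.2.2)), zero_add, hfix γ hγ hγw]
            · rw [if_neg e1, if_neg e2, if_neg, add_zero]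
              rintro (e3 | e3)
              · exact e1 e3
              · exact e2 (by rw [← e3, T.rho_rho hη.1.2.2])
      rw [hco]
      by_cases e : η = γ ∨ T.rho η = γ
      · rw [if_pos e, if_neg, add_zero, if_pos]
        · rcases e with e | e <;> simp [e]
        · rintro (e' | e')
          · rcases e with e | e
            · exact hγE (e ▸ e')
            · obtain ⟨-, -, -, hle⟩ := hE η (Finset.mem_insert_of_mem e')
              have : T.rho γ = η := by rw [← e, T.rho_rho hη.1.2.2]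
              exact hγE ((show γ = η by omega) ▸ e')
          · rcases e with e | e
            · obtain ⟨-, -, -, hle⟩ := hE _ (Finset.mem_insert_of_mem e')
              rw [T.rho_rho hη.1.2.2] at hle
              subst e
              exact hγE ((show η = T.rho η by omega) ▸ e')
            · exact hγE (e ▸ e')
      · rw [if_neg e, zero_add]
        push Not at e
        exact if_congr (by simp [e.1, e.2]) rfl rfl
  set E := (Finset.range D.nroots).filter fun γ => γ ∈ R2 ∧ WT γ = k ∧ zf γ ≠ 0 ∧ γ ≤ T.rho γ with hEdef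
  obtain ⟨z, hz, hzf, hzc⟩ := key E fun γ hγ => (Finset.mem_filter.1 hγ).2
  refine ⟨z, hz, hzf, fun η hη hw => ?_⟩
  rw [hzc η hη hw]
  by_cases h0 : zf η = 0
  · simp [h0]
  rw [if_pos]
  rcases le_total η (T.rho η) with hle | hle
  · exact Or.inl (Finset.mem_filter.2 ⟨Finset.mem_range.2 hη.1.2.2, hη, hw, h0, hle⟩)
  · refine Or.inr (Finset.mem_filter.2 ⟨Finset.mem_range.2 (T.rho_lt hη.1.2.2), T.rest2_rho hΨ hst hr hη,
      by rw [T.wt_rho hΨ hst hr hη, hw], ?_, by rw [T.rho_rho hη.1.2.2]; exact hle⟩)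
    rw [hfix η hη hw]
    simpa using h0

theorem perp_fixed_sq {p : GL D.Idx F} (hp : p ∈ rootGen D F PP) {k : ℤ}
    (hpp : p * p ∈ rootGen D F (AA k)) {η : ℕ} (hη : η ∈ R2) (hw : WT η = k) (hC : η ∉ PP) :
    CF (AA k) η (p * p) = 0 := by
  refine h.cf_of_mem (T.lay_cl hΨ hst hr k) (T.lay_irr hΨ hst hr hη hw) (rootGen_mono ?_
    (h.toRooted.mem_rootGen_inter (T.perp_cl hΨ hst hr).1 (T.lay_cl hΨ hst hr k).1
      (h.closed_of_cl (T.perp_cl hΨ hst hr)) (h.closed_of_cl (T.lay_cl hΨ hst hr k)) (mul_mem hp hp) hpp))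
  rintro a ⟨ha, hb⟩
  exact ⟨hb, fun e => hC (e ▸ ha)⟩

theorem mem_next_lay {x : GL D.Idx F} {k : ℤ} (hx : x ∈ rootGen D F (AA k))
    (h0 : ∀ η ∈ R2, WT η = k → CF (AA k) η x = 0) : x ∈ rootGen D F (AA (k + 1)) := by
  classical
  refine rootGen_mono ?_ (h.mem_of_cf_zero (T.lay_cl hΨ hst hr k) hx
    ((Finset.range D.nroots).filter fun η => η ∈ R2 ∧ WT η = k)
    fun η hη => ⟨T.lay_irr hΨ hst hr (Finset.mem_filter.1 hη).2.1 (Finset.mem_filter.1 hη).2.2,
      h0 η (Finset.mem_filter.1 hη).2.1 (Finset.mem_filter.1 hη).2.2⟩)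
  rintro a ⟨⟨ha, hle⟩, hne⟩
  refine ⟨ha, ?_⟩
  have : WT a ≠ k := fun e => hne (Finset.mem_coe.2 (Finset.mem_filter.2 ⟨Finset.mem_range.2 ha.1.2.2, ha, e⟩))
  omega

/-- One layer. -/
theorem step [CharP F 2] {R : GL D.Idx F} {L : (ℕ → F) → ℕ → F} (hR : T.Solver Ψ r R L) {k : ℤ}
    {p w : GL D.Idx F} (hp : p ∈ rootGen D F PP) (hpf : p ∈ T.fx) (hw : w ∈ rootGen D F (AA k))
    (hwf : w ∈ T.fx) (hsq : R * p * w * (R * p * w) = 1) :
    ∃ g ∈ rootGen D F Ψ, g ∈ T.fx ∧ ∃ p' ∈ rootGen D F PP, p' ∈ T.fx ∧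
      ∃ w' ∈ rootGen D F (AA (k + 1)), w' ∈ T.fx ∧ g * (R * p * w) * g⁻¹ = R * p' * w' := by
  classical
  have hcl := T.lay_cl hΨ hst hr k
  have hirr : ∀ η ∈ R2, WT η = k → IrrIn D C (AA k) η := fun η hη e => T.lay_irr hΨ hst hr hη e
  have hRp : R * p = p * R := (hR.comm p hp).eq
  set A := rootGen D F (AA k)
  obtain ⟨hRwR, hRw⟩ := hR.conj k w hw
  obtain ⟨hpRw, hpRwc⟩ := T.conj_perp hΨ hst hr (inv_mem hp) _ hRwR
  rw [inv_inv] at hpRw hpRwc
  have e0 : p * p * (p⁻¹ * (R * w * R) * p * w) = 1 := by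
    rw [← hsq]
    calc p * p * (p⁻¹ * (R * w * R) * p * w) = p * R * w * (R * p) * w := by group
      _ = _ := by rw [← hRp]; group
  have hpp : p * p ∈ A := by
    rw [eq_inv_of_mul_eq_one_left e0]
    exact inv_mem (mul_mem hpRw hw)
  have heq : ∀ η ∈ R2, WT η = k → η ∉ PP → L (fun ζ => CF (AA k) ζ w) η = 0 := by
    intro η hη hwt hC
    have hi := hirr η hη hwt
    have e1 := congrArg (CF (AA k) η) e0
    rw [h.cf_mul hcl hi hpp (mul_mem hpRw hw), h.cf_mul hcl hi hpRw hw, h.cf_one hcl hi,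
      T.perp_fixed_sq hΨ hst hr hp hpp hη hwt hC, hpRwc η hη hwt, hRw η hη hwt, zero_add] at e1
    linear_combination e1 - CharTwo.add_self_eq_zero (CF (AA k) η w)
  have hffix : ∀ η ∈ R2, WT η = k → CF (AA k) (T.rho η) w = T.phi (CF (AA k) η w) := fun η hη hwt => by
    have hi' := hirr _ (T.rest2_rho hΨ hst hr hη) ((T.wt_rho hΨ hst hr hη).trans hwt)
    conv_lhs => rw [← hwf.2]
    exact h.cf_sg T hcl (T.lay_stable hΨ hst hr k) (hirr η hη hwt) hi' hw
  obtain ⟨zf, hzfix, hzeq⟩ := hR.solve k _ hffix heq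
  obtain ⟨z, hz', hzf', hzc⟩ := T.exists_layer_elt hΨ hst hr (S := AA k) (T.lay_stable hΨ hst hr k) zf hzfix
    (fun η hη hwt _ => ⟨hη, hwt.ge⟩)
  have hzA : z ∈ A := rootGen_mono Set.inter_subset_right hz'
  obtain ⟨hRzR, hRz⟩ := hR.conj k z hzA
  obtain ⟨hpRz, hpRzc⟩ := T.conj_perp hΨ hst hr (inv_mem hp) _ hRzR
  rw [inv_inv] at hpRz hpRzc
  set w1 := p⁻¹ * (R * z * R) * p * w * z⁻¹ with hw1
  have hw1A : w1 ∈ A := mul_mem (mul_mem hpRz hw) (inv_mem hzA)
  have e1 : z * (R * p * w) * z⁻¹ = R * p * w1 := by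
    calc z * (R * p * w) * z⁻¹ = 1 * z * R * p * w * z⁻¹ := by group
      _ = R * R * z * R * p * w * z⁻¹ := by rw [hR.sq]
      _ = _ := by rw [hw1]; group
  have hw1f : w1 ∈ T.fx := by
    have h2 : R * p * w1 ∈ T.fx := e1 ▸ mul_mem (mul_mem hzf' (mul_mem (mul_mem hR.fixed hpf) hwf)) (inv_mem hzf')
    have h3 := mul_mem (inv_mem (mul_mem hR.fixed hpf)) h2
    rwa [inv_mul_cancel_left] at h3
  have hw1z : ∀ η ∈ R2, WT η = k → η ∉ PP → CF (AA k) η w1 = 0 := by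
    intro η hη hwt hC
    have hi := hirr η hη hwt
    rw [hw1, h.cf_mul hcl hi (mul_mem hpRz hw) (inv_mem hzA), h.cf_mul hcl hi hpRz hw, h.cf_inv hcl hi hzA,
      hpRzc η hη hwt, hRz η hη hwt, hzc η hη hwt, hR.congr k (fun ζ => CF (AA k) ζ z) zf hzc η hη hwt]
    linear_combination hzeq η hη hwt hC
  -- the part in the orthogonal roots
  set qf : ℕ → F := fun η => if η ∈ PP then CF (AA k) η w1 else 0 with hqf
  obtain ⟨qe, hq', hqfx, hqc⟩ := T.exists_layer_elt hΨ hst hr (S := PP) (k := k) (T.perp_stable hΨ hst hr) qf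
    (fun η hη hwt => by
      by_cases hC : η ∈ PP
      · simp only [qf, if_pos hC, if_pos (T.perp_stable hΨ hst hr η hC)]
        have hi' := hirr _ (T.rest2_rho hΨ hst hr hη) ((T.wt_rho hΨ hst hr hη).trans hwt)
        conv_lhs => rw [← hw1f.2]
        exact h.cf_sg T hcl (T.lay_stable hΨ hst hr k) (hirr η hη hwt) hi' hw1A
      · have hC' : T.rho η ∉ PP := fun e => hC (by
          have := T.perp_stable hΨ hst hr _ e
          rwa [T.rho_rho hη.1.2.2] at this)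
        simp [qf, hC, hC'])
    (fun η _ _ h0 => by by_contra hC; simp [qf, hC] at h0)
  have hqA : qe ∈ A := rootGen_mono Set.inter_subset_right hq'
  have hq0 := T.mem_next_lay hΨ hst hr (x := qe⁻¹ * w1) (k := k) (mul_mem (inv_mem hqA) hw1A)
    (fun η hη hwt => by
      have hi := hirr η hη hwt
      rw [h.cf_mul hcl hi (inv_mem hqA) hw1A, h.cf_inv hcl hi hqA, hqc η hη hwt]
      by_cases hC : η ∈ PP
      · simp [qf, hC]
      · simp [qf, hC, hw1z η hη hwt hC])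
  refine ⟨z, rootGen_mono ?_ hzA, hzf', p * qe, mul_mem hp (rootGen_mono Set.inter_subset_left hq'),
    mul_mem hpf hqfx, qe⁻¹ * w1, hq0, mul_mem (inv_mem hqfx) hw1f, ?_⟩
  · exact fun a ha => ha.1.1.1
  · rw [e1]; group

/-- All layers. -/
theorem sweep [CharP F 2] {R : GL D.Idx F} {L : (ℕ → F) → ℕ → F} (hR : T.Solver Ψ r R L) :
    ∀ (n : ℕ) (k : ℤ), (∀ η ∈ R2, WT η < k + n) → ∀ p ∈ rootGen D F PP, p ∈ T.fx →
      ∀ w ∈ rootGen D F (AA k), w ∈ T.fx → R * p * w * (R * p * w) = 1 →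
      ∃ g ∈ rootGen D F Ψ, g ∈ T.fx ∧ ∃ p' ∈ rootGen D F PP, p' ∈ T.fx ∧ g * (R * p * w) * g⁻¹ = R * p' := by
  intro n
  induction n with
  | zero =>
    intro k hk p hp hpf w hw _ _
    have : AA k = ∅ := Set.eq_empty_iff_forall_notMem.2 fun a ha => by
      have := hk a ha.1
      have := ha.2
      omega
    rw [this] at hw
    have hw1 : w = 1 := by simpa [rootGen] using hw
    exact ⟨1, one_mem _, one_mem _, p, hp, hpf, by simp [hw1]⟩
  | succ n ih =>
    intro k hk p hp hpf w hw hwf hsq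
    obtain ⟨g, hg, hgf, p', hp', hpf', w', hw', hwf', e⟩ := T.step hΨ hst hr hR hp hpf hw hwf hsq
    obtain ⟨g', hg', hgf', p'', hp'', hpf'', e'⟩ := ih (k + 1) (fun η hη => by have := hk η hη; push_cast at *; omega)
      p' hp' hpf' w' hw' hwf' (by
        rw [← e]
        calc _ = g * (R * p * w * (R * p * w)) * g⁻¹ := by group
          _ = 1 := by rw [hsq]; group)
    refine ⟨g' * g, mul_mem hg' hg, mul_mem hgf' hgf, p'', hp'', hpf'', ?_⟩
    rw [← e', ← e]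
    group

end Tw

end Cfsg.Agent.Lib.InvE66T
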