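import Cfsg.Agent.Lib.InvE66.Recur

/-!
A symmetry of order two of a simply laced root system and the endomorphism it induces in characteristic two.
-/

set_option autoImplicit false

namespace Cfsg.Agent.Lib.InvE66T

open Cfsg.Lie Cfsg.Agent.Lib.Chev Cfsg.Agent.Lib.ChevCent Cfsg.Agent.Lib.InvE66
open scoped Matrix

/-- The conditions on the symmetry. -/
def chkSym (D : ChevalleyDatum) (C : Cert) (rho : ℕ → ℕ) : Bool :=
  allN D.nroots fun r =>
    Nat.blt (rho r) D.nroots && Nat.beq (rho (rho r)) r &&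
    (Nat.ble (D.nroots / 2) (rho r) == Nat.ble (D.nroots / 2) r) &&
    Nat.beq (rho (ng D r)) (ng D (rho r)) &&
    decide (Cfsg.Agent.Lib.Chev.ht D C (rho r) = Cfsg.Agent.Lib.Chev.ht D C r) &&
    (Nat.beq (rho r) r || decide (prs D C r (rho r) = 0)) &&
    allN D.nroots fun s => decide (prs D C (rho r) (rho s) = prs D C r s) &&
      (!decide (prs D C r s = -1) || Nat.beq (sumR C (rho r) (rho s)) (rho (sumR C r s)))

variable {D : ChevalleyDatum} {C : Cert} {F : Type*} [Field F]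

/-- The endomorphism `x_r(t) ↦ x_{ρ r}(φ t)`. -/
structure Tw (h : Laced D C) (F : Type*) [Field F] where
  rho : ℕ → ℕ
  phi : F ≃+* F
  sg : GL D.Idx F → GL D.Idx F
  ok : chkSym D C rho = true
  phi_phi : ∀ t, phi (phi t) = t
  sg_mul : ∀ a ∈ D.group F, ∀ b ∈ D.group F, sg (a * b) = sg a * sg b
  sg_mem : ∀ a ∈ D.group F, sg a ∈ D.group F
  sg_x : ∀ r < D.nroots, ∀ t : F, sg (xg h.toRooted.toChecked r t) = xg h.toRooted.toChecked (rho r) (phi t)

namespace Tw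

variable {h : Laced D C} (T : Tw h F)

local notation "X" => xg h.toRooted.toChecked

theorem spec {r : ℕ} (hr : r < D.nroots) : T.rho r < D.nroots ∧ T.rho (T.rho r) = r ∧
    (D.nroots / 2 ≤ T.rho r ↔ D.nroots / 2 ≤ r) ∧ T.rho (ng D r) = ng D (T.rho r) ∧
    Cfsg.Agent.Lib.Chev.ht D C (T.rho r) = Cfsg.Agent.Lib.Chev.ht D C r ∧
    (T.rho r = r ∨ prs D C r (T.rho r) = 0) ∧
    ∀ s < D.nroots, prs D C (T.rho r) (T.rho s) = prs D C r s ∧
      (prs D C r s = -1 → sumR C (T.rho r) (T.rho s) = T.rho (sumR C r s)) := by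
  have hb := T.ok
  simp only [chkSym, allN_iff, Bool.and_eq_true, Nat.blt_eq, natBeq_iff, beq_iff_eq, Bool.or_eq_true,
    decide_eq_true_eq, Bool.not_eq_true', decide_eq_false_iff_not] at hb
  obtain ⟨⟨⟨⟨⟨⟨a, b⟩, c⟩, d⟩, e⟩, f⟩, g⟩ := hb r hr
  refine ⟨a, b, ?_, d, e, f, fun s hs => ⟨(g s hs).1, fun e' => (g s hs).2.resolve_left (fun n => n e')⟩⟩
  rw [← Nat.ble_eq, c, Nat.ble_eq]

theorem rho_lt {r : ℕ} (hr : r < D.nroots) : T.rho r < D.nroots := (T.spec hr).1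

theorem rho_rho {r : ℕ} (hr : r < D.nroots) : T.rho (T.rho r) = r := (T.spec hr).2.1

theorem rho_pos {r : ℕ} (hr : r ∈ posSet D) : T.rho r ∈ posSet D :=
  ⟨(T.spec hr.2).2.2.1.2 hr.1, T.rho_lt hr.2⟩

theorem rho_ng {r : ℕ} (hr : r < D.nroots) : T.rho (ng D r) = ng D (T.rho r) := (T.spec hr).2.2.2.1

theorem rho_ht {r : ℕ} (hr : r < D.nroots) :
    Cfsg.Agent.Lib.Chev.ht D C (T.rho r) = Cfsg.Agent.Lib.Chev.ht D C r := (T.spec hr).2.2.2.2.1

theorem rho_orth {r : ℕ} (hr : r < D.nroots) : T.rho r = r ∨ prs D C r (T.rho r) = 0 := (T.spec hr).2.2.2.2.2.1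

theorem rho_prs {r s : ℕ} (hr : r < D.nroots) (hs : s < D.nroots) :
    prs D C (T.rho r) (T.rho s) = prs D C r s := ((T.spec hr).2.2.2.2.2.2 s hs).1

theorem rho_sum {r s : ℕ} (hr : r < D.nroots) (hs : s < D.nroots) (e : prs D C r s = -1) :
    sumR C (T.rho r) (T.rho s) = T.rho (sumR C r s) := ((T.spec hr).2.2.2.2.2.2 s hs).2 e

theorem rho_inj {r s : ℕ} (hr : r < D.nroots) (hs : s < D.nroots) (e : T.rho r = T.rho s) : r = s := by
  rw [← T.rho_rho hr, e, T.rho_rho hs]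

theorem prs_left {r s : ℕ} (hr : r < D.nroots) (hs : s < D.nroots) :
    prs D C (T.rho r) s = prs D C r (T.rho s) := by
  conv_lhs => rw [← T.rho_rho hs]
  exact T.rho_prs hr (T.rho_lt hs)

/-- A set of roots stable under the symmetry. -/
def Stable (S : Set ℕ) : Prop := ∀ r ∈ S, T.rho r ∈ S

theorem sg_one : T.sg 1 = 1 := by
  have e := T.sg_mul 1 (one_mem _) 1 (one_mem _)
  rw [mul_one] at e
  exact left_eq_mul.1 e

theorem sg_inv {a : GL D.Idx F} (ha : a ∈ D.group F) : T.sg a⁻¹ = (T.sg a)⁻¹ := by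
  refine eq_inv_of_mul_eq_one_left ?_
  rw [← T.sg_mul a⁻¹ (inv_mem ha) a ha, inv_mul_cancel, T.sg_one]

/-- The fixed elements. -/
def fx : Subgroup (GL D.Idx F) where
  carrier := {g | g ∈ D.group F ∧ T.sg g = g}
  one_mem' := ⟨one_mem _, T.sg_one⟩
  mul_mem' := fun {a b} ha hb => ⟨mul_mem ha.1 hb.1, by rw [T.sg_mul a ha.1 b hb.1, ha.2, hb.2]⟩
  inv_mem' := fun {a} ha => ⟨inv_mem ha.1, by rw [T.sg_inv ha.1, ha.2]⟩

theorem mem_fx {g : GL D.Idx F} : g ∈ T.fx ↔ g ∈ D.group F ∧ T.sg g = g := Iff.rfl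

include T in
theorem xg_group {r : ℕ} (hr : r < D.nroots) (t : F) : X r t ∈ D.group F :=
  rootGen_le_group (S := {r}) (fun a (ha : a = r) => ha ▸ hr) (h.xg_mem (S := {r}) (Set.mem_singleton r) t)

theorem sg_rootGen {S S' : Set ℕ} (hS : ∀ r ∈ S, r < D.nroots) (hSS : ∀ r ∈ S, T.rho r ∈ S')
    {g : GL D.Idx F} (hg : g ∈ rootGen D F S) : T.sg g ∈ rootGen D F S' := by
  have hG : rootGen D F S ≤ D.group F := rootGen_le_group hS
  induction hg using Subgroup.closure_induction with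
  | mem x hx =>
    obtain ⟨r, t, hr, e⟩ := hx
    rw [show x = X r t from Units.ext (by rw [e, coe_xg]), T.sg_x r (hS r hr)]
    exact h.xg_mem (hSS r hr) _
  | one => rw [T.sg_one]; exact one_mem _
  | mul a b ha hb iha ihb => rw [T.sg_mul a (hG ha) b (hG hb)]; exact mul_mem iha ihb
  | inv a ha iha => rw [T.sg_inv (hG ha)]; exact inv_mem iha

/-- The product over an orbit with a parameter following the endomorphism. -/
noncomputable def oel (r : ℕ) (t : F) : GL D.Idx F := if T.rho r = r then X r t else X r t * X (T.rho r) (T.phi t)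

theorem oel_mem {S : Set ℕ} {r : ℕ} (hr : r ∈ S) (hr' : T.rho r ∈ S) (t : F) : T.oel r t ∈ rootGen D F S := by
  unfold oel
  split_ifs
  · exact h.xg_mem hr t
  · exact mul_mem (h.xg_mem hr t) (h.xg_mem hr' _)

theorem pair_commute [CharP F 2] {r : ℕ} (hr : r < D.nroots) (hne : T.rho r ≠ r) (a b : F) :
    Commute (X r a) (X (T.rho r) b) :=
  h.commute_of_nonneg hr (T.rho_lt hr) (by rw [(T.rho_orth hr).resolve_left hne]) a b

theorem oel_fixed [CharP F 2] {r : ℕ} (hr : r < D.nroots) {t : F} (ht : T.rho r = r → T.phi t = t) :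
    T.oel r t ∈ T.fx := by
  unfold oel
  split_ifs with e
  · exact ⟨T.xg_group hr t, by rw [T.sg_x r hr, e, ht e]⟩
  · refine ⟨mul_mem (T.xg_group hr _) (T.xg_group (T.rho_lt hr) _), ?_⟩
    rw [T.sg_mul _ (T.xg_group hr _) _ (T.xg_group (T.rho_lt hr) _), T.sg_x r hr, T.sg_x _ (T.rho_lt hr),
      T.rho_rho hr, T.phi_phi]
    exact (T.pair_commute hr e _ _).eq.symm

end Tw

end Cfsg.Agent.Lib.InvE66T
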